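import Groth.Prelude.Def_Found
import Groth.Prelude.Def_Curv2
import Mathlib.RingTheory.Artinian.Module
import Mathlib.RingTheory.Ideal.MinimalPrime.Localization
import Mathlib.RingTheory.Ideal.MinimalPrime.Noetherian
import Mathlib.RingTheory.KrullDimension.NonZeroDivisors
import Mathlib.RingTheory.Localization.Integral
import Mathlib.RingTheory.IntegralClosure.IntegrallyClosed
import Mathlib.RingTheory.FiniteLength
import Mathlib.RingTheory.LocalProperties.Reduced

/-!
Integral closure of a reduced Nagata ring in its total ring of fractions.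
-/

universe u

namespace Groth.L22.Norm

variable (A : Type u) [CommRing A] [IsNoetherianRing A] [IsReduced A]

omit [IsNoetherianRing A] in
theorem notMem_minimalPrimes_iff (x : A) :
    x ∈ nonZeroDivisors A ↔ ∀ p ∈ minimalPrimes A, x ∉ p := by
  refine ⟨fun hx p hp h => notMem_nonZeroDivisors_of_mem_mem_minimalPrimes h hp hx, fun h => ?_⟩
  refine mem_nonZeroDivisors_iff_right.2 fun y hy => ?_
  have hy0 : ∀ p ∈ minimalPrimes A, y ∈ p := fun p hp =>
    ((hp.1.1.mem_or_mem (show y * x ∈ p by rw [hy]; exact p.zero_mem)).resolve_right (h p hp))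
  have : y ∈ nilradical A := by
    show y ∈ (⊥ : Ideal A).radical
    rw [← Ideal.sInf_minimalPrimes, Submodule.mem_sInf]
    exact hy0
  rwa [nilradical_eq_zero A] at this

theorem comap_mem_minimalPrimes (P : Ideal (FractionRing A)) [P.IsPrime] :
    P.comap (algebraMap A (FractionRing A)) ∈ minimalPrimes A := by
  have hdisj : Disjoint (nonZeroDivisors A : Set A) (P.comap (algebraMap A (FractionRing A))) :=
    (IsLocalization.isPrime_iff_isPrime_disjoint (nonZeroDivisors A) (FractionRing A) P).1 inferInstance |>.2
  have hsub : ((P.comap (algebraMap A (FractionRing A))) : Set A) ⊆ ⋃ q ∈ minimalPrimes A, (q : Set A) := by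
    intro x hx
    by_contra hx'
    exact Set.disjoint_left.1 hdisj ((notMem_minimalPrimes_iff A x).2 fun q hq hxq =>
      hx' (Set.mem_biUnion hq hxq)) hx
  have hfin := (⊥ : Ideal A).finite_minimalPrimes_of_isNoetherianRing A
  obtain ⟨q, hq, hle⟩ := (Ideal.subset_union_prime_finite hfin (f := fun q : Ideal A => q) ⊥ ⊥
    (fun q hq _ _ => hq.1.1)).1 hsub
  rwa [le_antisymm hle (hq.2 ⟨inferInstance, bot_le⟩ hle)]

theorem isArtinianRing_fractionRing : IsArtinianRing (FractionRing A) := by
  haveI : IsNoetherianRing (FractionRing A) :=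
    IsLocalization.isNoetherianRing (nonZeroDivisors A) _ inferInstance
  haveI : Ring.KrullDimLE 0 (FractionRing A) := by
    refine Ring.krullDimLE_zero_iff.mpr fun P hP => ?_
    obtain ⟨M, hM, hle⟩ := Ideal.exists_le_maximal P hP.ne_top
    have h1 := (comap_mem_minimalPrimes A M).2 ⟨inferInstance, bot_le⟩ (Ideal.comap_mono hle)
    have : P = M := by
      rw [← IsLocalization.map_comap (nonZeroDivisors A) (FractionRing A) P,
        ← IsLocalization.map_comap (nonZeroDivisors A) (FractionRing A) M]
      exact congrArg (Ideal.map _) (le_antisymm (Ideal.comap_mono hle) h1)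
    exact this ▸ hM
  exact IsNoetherianRing.isArtinianRing_of_krullDimLE_zero

/-- The integral closure in a residue field of the total ring of fractions is finite for Nagata
rings. -/
theorem finite_integralClosure_quotient (hN : CAlg.IsNagata A) (M : Ideal (FractionRing A))
    [M.IsMaximal] : Module.Finite A (integralClosure A (FractionRing A ⧸ M)) := by
  let p := M.comap (algebraMap A (FractionRing A))
  letI := Ideal.Quotient.field M
  letI : Algebra (A ⧸ p) (FractionRing A ⧸ M) :=
    (Ideal.Quotient.lift p ((Ideal.Quotient.mk M).comp (algebraMap A (FractionRing A)))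
      fun a ha => Ideal.Quotient.eq_zero_iff_mem.2 ha).toAlgebra
  haveI : IsScalarTower A (A ⧸ p) (FractionRing A ⧸ M) := IsScalarTower.of_algebraMap_eq fun a => rfl
  haveI : FaithfulSMul (A ⧸ p) (FractionRing A ⧸ M) := by
    refine (faithfulSMul_iff_algebraMap_injective _ _).2 ((injective_iff_map_eq_zero _).2 fun z hz => ?_)
    obtain ⟨a, rfl⟩ := Ideal.Quotient.mk_surjective z
    have h' : algebraMap A (FractionRing A) a ∈ M := Ideal.Quotient.eq_zero_iff_mem.1 hz
    exact Ideal.Quotient.eq_zero_iff_mem.2 h'
  haveI : IsFractionRing (A ⧸ p) (FractionRing A ⧸ M) := IsFractionRing.of_field _ _ fun z => by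
    obtain ⟨z, rfl⟩ := Ideal.Quotient.mk_surjective z
    obtain ⟨a, s, rfl⟩ := IsLocalization.exists_mk'_eq (nonZeroDivisors A) z
    refine ⟨Ideal.Quotient.mk p a, Ideal.Quotient.mk p s, ?_⟩
    show Ideal.Quotient.mk M (IsLocalization.mk' _ a s) =
      Ideal.Quotient.mk M (algebraMap A _ a) / Ideal.Quotient.mk M (algebraMap A _ s)
    have hs : Ideal.Quotient.mk M (algebraMap A (FractionRing A) s) ≠ 0 := fun h =>
      (IsLocalization.isPrime_iff_isPrime_disjoint (nonZeroDivisors A) (FractionRing A) M).1
        inferInstance |>.2 |> fun hd => by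
          have h' : algebraMap A (FractionRing A) s ∈ _ := Ideal.Quotient.eq_zero_iff_mem.1 h
          exact Set.disjoint_left.1 hd s.2 h'
    rw [eq_div_iff hs, ← map_mul, IsLocalization.mk'_spec]
  haveI hN2 : Module.Finite (A ⧸ p) (integralClosure (A ⧸ p) (FractionRing (A ⧸ p))) :=
    hN.2 p (FractionRing (A ⧸ p)) inferInstance
  haveI : Module.Finite A (integralClosure (A ⧸ p) (FractionRing (A ⧸ p))) :=
    Module.Finite.trans (A ⧸ p) _
  let e : (FractionRing A ⧸ M) ≃ₐ[A] FractionRing (A ⧸ p) :=
    (IsLocalization.algEquiv (nonZeroDivisors (A ⧸ p)) _ _).restrictScalars A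
  let g : integralClosure A (FractionRing A ⧸ M) →ₗ[A]
      integralClosure (A ⧸ p) (FractionRing (A ⧸ p)) :=
    { toFun := fun z => ⟨e z, (z.2.map e.toAlgHom).tower_top⟩
      map_add' := fun x y => Subtype.ext (map_add e _ _)
      map_smul' := fun c x => Subtype.ext (map_smul e c x.1) }
  exact Module.Finite.of_injective g fun x y h => Subtype.ext (e.injective (congrArg Subtype.val h))

/-- The projection of the integral closure to that of a residue field of the total ring. -/
noncomputable def proj (M : Ideal (FractionRing A)) :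
    integralClosure A (FractionRing A) →ₐ[A] integralClosure A (FractionRing A ⧸ M) :=
  ((Ideal.Quotient.mkₐ A M).comp (integralClosure A (FractionRing A)).val).codRestrict _
    fun z => z.2.map (Ideal.Quotient.mkₐ A M)

/-- The integral closure of a reduced Nagata ring in its total ring of fractions is finite. -/
theorem finite_integralClosure (hN : CAlg.IsNagata A) :
    Module.Finite A (integralClosure A (FractionRing A)) := by
  haveI := isArtinianRing_fractionRing A
  haveI : IsReduced (FractionRing A) :=
    isReduced_localizationPreserves (nonZeroDivisors A) _ ‹IsReduced A›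
  haveI := fun M : MaximalSpectrum (FractionRing A) => finite_integralClosure_quotient A hN M.asIdeal
  refine Module.Finite.of_injective
    (LinearMap.pi fun M : MaximalSpectrum (FractionRing A) => (proj A M.asIdeal).toLinearMap)
    fun x y h => Subtype.ext ((IsArtinianRing.equivPi (FractionRing A)).injective (funext fun M => ?_))
  exact congrArg Subtype.val (congrFun h M)

omit [IsNoetherianRing A] [IsReduced A] in
theorem isLocalization_atPrime_of_projection {B C : Type u} [CommRing B] [CommRing C]
    (π : B →+* C) (hπ : Function.Surjective π) (e : B) (he : ∀ b, π b = 0 → e * b = 0)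
    (q' : Ideal C) [q'.IsPrime] (he' : e ∉ q'.comap π) :
    letI := ((algebraMap C (Localization.AtPrime q')).comp π).toAlgebra
    IsLocalization.AtPrime (Localization.AtPrime q') (q'.comap π) := by
  letI := ((algebraMap C (Localization.AtPrime q')).comp π).toAlgebra
  refine ⟨fun y => IsLocalization.map_units (Localization.AtPrime q') (⟨π y.1, y.2⟩ : q'.primeCompl),
    fun z => ?_, fun {x y} h => ?_⟩
  · obtain ⟨⟨c, t, ht⟩, hz⟩ := IsLocalization.surj q'.primeCompl z
    obtain ⟨b, rfl⟩ := hπ c
    obtain ⟨t, rfl⟩ := hπ t
    exact ⟨⟨b, t, ht⟩, hz⟩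
  · obtain ⟨⟨t, ht⟩, hxy⟩ := (IsLocalization.eq_iff_exists q'.primeCompl (Localization.AtPrime q')).1 h
    obtain ⟨t, rfl⟩ := hπ t
    refine ⟨⟨e * t, fun h' => ?_⟩, ?_⟩
    · rcases Ideal.IsPrime.mem_or_mem (inferInstance : (q'.comap π).IsPrime) h' with h'' | h''
      · exact he' h''
      · exact ht h''
    · have h0 : π (t * x - t * y) = 0 := by rw [map_sub, map_mul, map_mul]; exact sub_eq_zero.2 hxy
      have := he _ h0
      show e * t * x = e * t * y
      linear_combination this

/-- Localisations of the integral closure are normal domains. -/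
theorem isDomain_isIntegrallyClosed_localization (q : Ideal (integralClosure A (FractionRing A)))
    [q.IsPrime] :
    IsDomain (Localization.AtPrime q) ∧ IsIntegrallyClosed (Localization.AtPrime q) := by
  classical
  haveI := isArtinianRing_fractionRing A
  haveI : IsReduced (FractionRing A) :=
    isReduced_localizationPreserves (nonZeroDivisors A) _ ‹IsReduced A›
  haveI := Fintype.ofFinite (MaximalSpectrum (FractionRing A))
  let E := IsArtinianRing.equivPi (FractionRing A)
  let ε := fun M : MaximalSpectrum (FractionRing A) => E.symm (Pi.single M 1)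
  have hεmem : ∀ M, ε M ∈ integralClosure A (FractionRing A) := fun M => by
    refine ⟨Polynomial.X ^ 2 - Polynomial.X, Polynomial.monic_X_pow_sub
      (lt_of_le_of_lt Polynomial.degree_X_le (by norm_num)), ?_⟩
    have : ε M * ε M = ε M := by
      show E.symm _ * E.symm _ = _
      rw [← map_mul, ← Pi.single_mul, mul_one]
    simp [sq, this]
  let e := fun M => (⟨ε M, hεmem M⟩ : integralClosure A (FractionRing A))
  have hmk : ∀ (z : FractionRing A) M, Ideal.Quotient.mk M.asIdeal z = E z M := fun z M => rfl
  obtain ⟨M, hM⟩ : ∃ M, e M ∉ q := by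
    by_contra! h
    refine (inferInstance : q.IsPrime).ne_top ((Ideal.eq_top_iff_one q).2 ?_)
    have h1 : (1 : integralClosure A (FractionRing A)) = ∑ M, e M := Subtype.ext (by
      rw [AddSubmonoidClass.coe_finsetSum]
      show (1 : FractionRing A) = ∑ M, E.symm (Pi.single M 1)
      rw [← map_sum, Finset.univ_sum_single (fun _ => (1 : _))]
      exact (map_one E.symm).symm)
    rw [h1]
    exact Ideal.sum_mem _ fun M _ => h M
  letI := Ideal.Quotient.field M.asIdeal
  let C := integralClosure A (FractionRing A ⧸ M.asIdeal)
  let π : integralClosure A (FractionRing A) →+* C := (proj A M.asIdeal).toRingHom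
  have hsurj : Function.Surjective π := fun c => by
    obtain ⟨z, hz⟩ := Ideal.Quotient.mk_surjective c.1
    obtain ⟨P, hP, hc⟩ := c.2
    have hint : z * ε M ∈ integralClosure A (FractionRing A) := by
      refine ⟨Polynomial.X * P, Polynomial.monic_X.mul hP, E.injective (funext fun N => ?_)⟩
      rw [Polynomial.eval₂_mul, Polynomial.eval₂_X, map_mul, map_mul, map_zero, Pi.mul_apply,
        Pi.mul_apply, Pi.zero_apply]
      by_cases hN : N = M
      · subst hN
        have h2 : E (Polynomial.eval₂ (algebraMap A (FractionRing A)) (z * ε N) P) N = 0 := by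
          rw [← hmk, Polynomial.hom_eval₂]
          have : Ideal.Quotient.mk N.asIdeal (z * ε N) = c.1 := by
            rw [map_mul, hz, hmk (ε N), show E (ε N) = Pi.single N 1 from E.apply_symm_apply _,
              Pi.single_eq_same, mul_one]
          rw [this]
          exact hc
        rw [h2, mul_zero]
      · rw [show E (ε M) = Pi.single M 1 from E.apply_symm_apply _, Pi.single_eq_of_ne hN]
        simp
    refine ⟨⟨z * ε M, hint⟩, Subtype.ext ?_⟩
    show Ideal.Quotient.mk M.asIdeal (z * ε M) = c.1
    rw [map_mul, hz, hmk (ε M), show E (ε M) = Pi.single M 1 from E.apply_symm_apply _,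
      Pi.single_eq_same, mul_one]
  have he : ∀ b, π b = 0 → e M * b = 0 := fun b hb => Subtype.ext (E.injective (funext fun N => by
    show E (ε M * b.1) N = E 0 N
    rw [map_mul, map_zero, Pi.mul_apply, Pi.zero_apply,
      show E (ε M) = Pi.single M 1 from E.apply_symm_apply _]
    by_cases hN : N = M
    · subst hN
      rw [← hmk b.1, show Ideal.Quotient.mk N.asIdeal b.1 = 0 from congrArg Subtype.val hb, mul_zero]
    · rw [Pi.single_eq_of_ne hN, zero_mul]))
  have hker : RingHom.ker π ≤ q := fun b hb => by
    have := he b hb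
    exact ((inferInstance : q.IsPrime).mem_or_mem (this ▸ q.zero_mem)).resolve_left hM
  let q' := q.map π
  haveI : q'.IsPrime := Ideal.map_isPrime_of_surjective hsurj hker
  have hq : q'.comap π = q := by
    rw [Ideal.comap_map_of_surjective _ hsurj, ← RingHom.ker_eq_comap_bot, sup_eq_left.mpr hker]
  letI := ((algebraMap C (Localization.AtPrime q')).comp π).toAlgebra
  haveI hL := isLocalization_atPrime_of_projection π hsurj (e M) he q' (by rwa [hq])
  haveI : IsLocalization q.primeCompl (Localization.AtPrime q') := by
    have : (q'.comap π).primeCompl = q.primeCompl := Submonoid.ext fun x => by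
      show x ∉ q'.comap π ↔ x ∉ q
      rw [hq]
    exact this ▸ hL
  let φ := (IsLocalization.algEquiv q.primeCompl (Localization.AtPrime q')
    (Localization.AtPrime q)).toRingEquiv
  haveI : IsDomain C := inferInstance
  haveI : IsIntegrallyClosedIn C (FractionRing A ⧸ M.asIdeal) := inferInstance
  haveI : IsFractionRing C (FractionRing A ⧸ M.asIdeal) := IsFractionRing.of_field _ _ fun z => by
    obtain ⟨z, rfl⟩ := Ideal.Quotient.mk_surjective z
    obtain ⟨a, s, rfl⟩ := IsLocalization.exists_mk'_eq (nonZeroDivisors A) z
    refine ⟨algebraMap A C a, algebraMap A C s, ?_⟩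
    show Ideal.Quotient.mk M.asIdeal (IsLocalization.mk' _ a s) =
      Ideal.Quotient.mk M.asIdeal (algebraMap A _ a) / Ideal.Quotient.mk M.asIdeal (algebraMap A _ s)
    have hs : Ideal.Quotient.mk M.asIdeal (algebraMap A (FractionRing A) s) ≠ 0 := fun h =>
      (IsLocalization.isPrime_iff_isPrime_disjoint (nonZeroDivisors A) (FractionRing A) M.asIdeal).1
        inferInstance |>.2 |> fun hd => by
          have h' : algebraMap A (FractionRing A) s ∈ _ := Ideal.Quotient.eq_zero_iff_mem.1 h
          exact Set.disjoint_left.1 hd s.2 h'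
    rw [eq_div_iff hs, ← map_mul, IsLocalization.mk'_spec]
  haveI : IsIntegrallyClosed C :=
    (isIntegrallyClosed_iff_isIntegrallyClosedIn (FractionRing A ⧸ M.asIdeal)).mpr inferInstance
  haveI : IsDomain (Localization.AtPrime q') := inferInstance
  haveI : IsIntegrallyClosed (Localization.AtPrime q') :=
    isIntegrallyClosed_of_isLocalization _ q'.primeCompl q'.primeCompl_le_nonZeroDivisors
  exact ⟨φ.symm.toMulEquiv.isDomain, IsIntegrallyClosed.of_equiv φ⟩

/-- In dimension one the normalisation has finite colength. -/
theorem deltaInv_lt_top [IsLocalRing A] (hfin : Module.Finite A (integralClosure A (FractionRing A)))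
    (hdim : ringKrullDim A = 1) : Curv2.deltaInv A < ⊤ := by
  classical
  obtain ⟨G, hG⟩ := hfin.fg_top
  obtain ⟨⟨s, hs⟩, hsG⟩ := IsLocalization.exist_integer_multiples (nonZeroDivisors A) G
    (fun z : integralClosure A (FractionRing A) => (z : FractionRing A))
  have hsB : ∀ z : integralClosure A (FractionRing A),
      s • z ∈ LinearMap.range (Algebra.linearMap A (integralClosure A (FractionRing A))) := by
    intro z
    have hz : z ∈ Submodule.span A (G : Set (integralClosure A (FractionRing A))) :=
      hG ▸ Submodule.mem_top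
    induction hz using Submodule.span_induction with
    | mem g hg => obtain ⟨a, ha⟩ := hsG g hg; exact ⟨a, Subtype.ext ha⟩
    | zero => simp
    | add x y _ _ hx hy => rw [smul_add]; exact Submodule.add_mem _ hx hy
    | smul c x _ hx => rw [smul_comm]; exact Submodule.smul_mem _ _ hx
  let Q := integralClosure A (FractionRing A) ⧸
    LinearMap.range (Algebra.linearMap A (integralClosure A (FractionRing A)))
  have hann : Ideal.span {s} ≤ Module.annihilator A Q := by
    rw [Ideal.span_singleton_le_iff_mem, Module.mem_annihilator]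
    intro x
    obtain ⟨z, rfl⟩ := Submodule.Quotient.mk_surjective _ x
    rw [← Submodule.Quotient.mk_smul, Submodule.Quotient.mk_eq_zero]
    exact hsB z
  haveI : IsArtinianRing (A ⧸ Ideal.span {s}) := by
    haveI : Ring.KrullDimLE 0 (A ⧸ Ideal.span {s}) := by
      rw [Ring.krullDimLE_iff]
      have h := ringKrullDim_quotient_succ_le_of_nonZeroDivisor hs
      rw [hdim] at h
      have h2 := (ENat.WithBot.add_one_le_natCast_iff (m := 1)).1 (by simpa using h)
      simpa using (ENat.WithBot.lt_add_one_iff (m := 0)).1 (by simpa using h2)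
    exact IsNoetherianRing.isArtinianRing_of_krullDimLE_zero
  haveI hT : Module.IsTorsionBySet A Q (Ideal.span {s} : Ideal A) := fun x a =>
    Module.mem_annihilator.1 (hann a.2) x
  letI := hT.module
  haveI : IsScalarTower A (A ⧸ Ideal.span {s}) Q := IsScalarTower.of_algebraMap_smul fun _ _ => rfl
  haveI : Module.Finite (A ⧸ Ideal.span {s}) Q := Module.Finite.of_restrictScalars_finite A _ _
  show Module.length A Q < ⊤
  rw [Module.length_eq_of_surjective (S := A) (R := A ⧸ Ideal.span {s}) Ideal.Quotient.mk_surjective]
  exact lt_top_iff_ne_top.2 Module.length_ne_top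

end Groth.L22.Norm
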