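import Groth.Agent.L22.Norm.FlatInvariance
import Groth.Agent.L03.GeomReduced2
import Groth.Agent.L05.Henselization.Noeth
import Groth.Agent.L05.Henselization.StrictUniq
import Groth.Prelude.Def_Hensel
import Mathlib.RingTheory.AdicCompletion.LocalRing
import Mathlib.RingTheory.AdicCompletion.AsTensorProduct
import Mathlib.RingTheory.AdicCompletion.Noetherian
import Mathlib.FieldTheory.IntermediateField.Adjoin.Algebra

/-!
The δ-invariant of henselizations and completions.
-/

set_option autoImplicit false
set_option linter.style.haveILetI false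
set_option backward.isDefEq.respectTransparency.types false
set_option maxSynthPendingDepth 3

universe u

open TensorProduct IsLocalRing

namespace Groth.L22.Norm.FlatInvariance

theorem isReduced_tensor_separable (K F L : Type u) [Field K] [Field F] [Algebra K F] [Field L] [Algebra K L]
    [Algebra.IsSeparable K L] : IsReduced (F ⊗[K] L) := by
  refine IsReduced.tensorProduct_of_flat_of_forall_fg fun D hD => ?_
  obtain ⟨s, hs⟩ := hD
  let E := IntermediateField.adjoin K (s : Set L)
  haveI : FiniteDimensional K E := IntermediateField.finiteDimensional_adjoin fun x _ => Algebra.IsIntegral.isIntegral x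
  have hDE : D ≤ E.toSubalgebra := by
    rw [← hs, Algebra.adjoin_le_iff]
    exact IntermediateField.subset_adjoin K _
  haveI : IsReduced (F ⊗[K] E) := Groth.L03.GeomReduced2.isReduced_tensorProduct_of_isSeparable
  exact isReduced_of_injective (Algebra.TensorProduct.map (AlgHom.id F F) (Subalgebra.inclusion hDE : D →ₐ[K] E))
    (Module.Flat.lTensor_preserves_injective_linearMap _ (Subalgebra.inclusion_injective hDE))

variable (A : Type u) [CommRing A] [IsLocalRing A]
variable (B : Type u) [CommRing B] [IsLocalRing B] [Algebra A B] [IsLocalHom (algebraMap A B)]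

theorem isReduced_closedFibre (hm : (maximalIdeal A).map (algebraMap A B) = maximalIdeal B)
    [Algebra.IsSeparable (ResidueField A) (ResidueField B)] (F : Type u) [Field F] [Algebra A F]
    (hF : maximalIdeal A ≤ RingHom.ker (algebraMap A F)) : IsReduced (F ⊗[A] B) := by
  letI : Algebra (ResidueField A) F :=
    (Ideal.Quotient.lift (maximalIdeal A) (algebraMap A F) fun a ha => hF ha).toAlgebra
  haveI := isReduced_tensor_separable (ResidueField A) F (ResidueField B)
  haveI : IsScalarTower A (ResidueField A) F := IsScalarTower.of_algebraMap_eq fun _ => rfl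
  let rB : B →ₐ[A] F ⊗[ResidueField A] ResidueField B :=
    { ((Algebra.TensorProduct.includeRight : ResidueField B →ₐ[ResidueField A] F ⊗[ResidueField A] ResidueField B).toRingHom.comp
        (residue B)) with
      commutes' := fun a => by
        show (1 : F) ⊗ₜ[ResidueField A] residue B (algebraMap A B a) = algebraMap A F a ⊗ₜ[ResidueField A] 1
        rw [show residue B (algebraMap A B a) = residue A a • (1 : ResidueField B) by
          rw [Algebra.smul_def, mul_one]; rfl, ← TensorProduct.smul_tmul, Algebra.smul_def, mul_one]
        rfl }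
  let H : F ⊗[A] B →ₐ[A] F ⊗[ResidueField A] ResidueField B :=
    Algebra.TensorProduct.lift ((Algebra.TensorProduct.includeLeft : F →ₐ[ResidueField A] F ⊗[ResidueField A] ResidueField B).restrictScalars A)
      rB fun _ _ => Commute.all _ _
  have hkill : ∀ b ∈ maximalIdeal B, (1 : F) ⊗ₜ[A] b = 0 := by
    intro b hb
    rw [← hm] at hb
    have hle : (maximalIdeal A).map (algebraMap A B) ≤
        RingHom.ker (Algebra.TensorProduct.includeRight : B →ₐ[A] F ⊗[A] B).toRingHom := by
      refine Ideal.map_le_iff_le_comap.2 fun a ha => ?_
      show (1 : F) ⊗ₜ[A] algebraMap A B a = 0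
      rw [Algebra.algebraMap_eq_smul_one, ← TensorProduct.smul_tmul, Algebra.smul_def, mul_one,
        RingHom.mem_ker.1 (hF ha), TensorProduct.zero_tmul]
    exact hle hb
  let rBr : ResidueField B →+* F ⊗[A] B :=
    Ideal.Quotient.lift (maximalIdeal B) (Algebra.TensorProduct.includeRight : B →ₐ[A] F ⊗[A] B).toRingHom hkill
  let rBK : ResidueField B →ₐ[ResidueField A] F ⊗[A] B :=
    { rBr with
      commutes' := fun c => by
        obtain ⟨a, rfl⟩ := residue_surjective c
        show (1 : F) ⊗ₜ[A] algebraMap A B a = algebraMap A F a ⊗ₜ[A] (1 : B)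
        rw [Algebra.algebraMap_eq_smul_one, ← TensorProduct.smul_tmul, Algebra.smul_def, mul_one] }
  let G : F ⊗[ResidueField A] ResidueField B →ₐ[ResidueField A] F ⊗[A] B :=
    Algebra.TensorProduct.lift Algebra.TensorProduct.includeLeft rBK fun _ _ => Commute.all _ _
  have hGH : ∀ x, G (H x) = x := fun x => by
    induction x using TensorProduct.induction_on with
    | zero => simp
    | add x y hx hy => rw [map_add, map_add, hx, hy]
    | tmul f b =>
      show G ((f ⊗ₜ 1) * (1 ⊗ₜ residue B b)) = _
      rw [Algebra.TensorProduct.tmul_mul_tmul, mul_one, one_mul]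
      show (f ⊗ₜ[A] (1 : B)) * ((1 : F) ⊗ₜ[A] b) = _
      rw [Algebra.TensorProduct.tmul_mul_tmul, mul_one, one_mul]
  exact isReduced_of_injective H (Function.LeftInverse.injective hGH)

/-- The δ-invariant under flat local extensions with unramified separable closed fibre. -/
theorem deltaInv_eq_of_separable [IsNoetherianRing A] [IsReduced A] [IsNoetherianRing B] [Module.Flat A B]
    (hfin : Module.Finite A (integralClosure A (FractionRing A))) (hdim : ringKrullDim A ≤ 1)
    (hm : (maximalIdeal A).map (algebraMap A B) = maximalIdeal B)
    [Algebra.IsSeparable (ResidueField A) (ResidueField B)] :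
    Curv2.deltaInv B = Curv2.deltaInv A := by
  refine deltaInv_eq A B hfin hdim hm fun n hn => ?_
  letI := Ideal.Quotient.field n
  haveI := hfin
  haveI : Algebra.IsIntegral A (integralClosure A (FractionRing A)) := Algebra.IsIntegral.of_finite A _
  refine isReduced_closedFibre A B hm _ fun a ha => ?_
  show Ideal.Quotient.mk n (algebraMap A _ a) = 0
  rw [Ideal.Quotient.eq_zero_iff_mem]
  have := eq_maximalIdeal (Ideal.isMaximal_comap_of_isIntegral_of_isMaximal (R := A) n)
  exact this.ge ha

theorem isSeparable_of_bijective
    (h : Function.Bijective (ResidueField.map (algebraMap A B))) :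
    Algebra.IsSeparable (ResidueField A) (ResidueField B) := by
  refine ⟨fun z => ?_⟩
  obtain ⟨c, rfl⟩ := h.2 z
  exact isSeparable_algebraMap (F := ResidueField A) (K := ResidueField B) c

end Groth.L22.Norm.FlatInvariance
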