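import Groth.Agent.L22.Norm.Reduced
import Groth.Prelude.Def_Brnch
import Mathlib.LinearAlgebra.FreeModule.Finite.Matrix
import Mathlib.RingTheory.Ideal.Quotient.Operations
import Mathlib.SetTheory.Cardinal.Finite

/-!
The number of geometric branches is at most the δ-invariant plus one.
-/

universe u

namespace Groth.L22.Norm

variable (A : Type u) [CommRing A] [IsReduced A]

/-- For reduced `A`, the normalisation of the reduction is the integral closure of `A`. -/
theorem exists_normRed_linearEquiv :
    ∃ e : integralClosure A (FractionRing A) ≃ₗ[A] CAlg2.normRed A, e 1 = 1 := by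
  have hbij : Function.Bijective (IsScalarTower.toAlgHom A A (CAlg2.red A)) := by
    refine ⟨?_, Ideal.Quotient.mk_surjective⟩
    exact RingHom.injective_iff_ker_eq_bot (Ideal.Quotient.mk (nilradical A)) |>.2
      (Ideal.mk_ker.trans (nilradical_eq_zero A))
  let r : A ≃+* CAlg2.red A := RingEquiv.ofBijective (Ideal.Quotient.mk (nilradical A)) hbij
  haveI : IsFractionRing A (FractionRing (CAlg2.red A)) := by
    have h1 := IsLocalization.isLocalization_of_base_ringEquiv (nonZeroDivisors (CAlg2.red A))
      (FractionRing (CAlg2.red A)) r.symm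
    have h2 : (nonZeroDivisors (CAlg2.red A)).map (r.symm : CAlg2.red A →* A) = nonZeroDivisors A :=
      MulEquivClass.map_nonZeroDivisors r.symm
    convert! h2 ▸ h1 using 1
    exact Algebra.algebra_ext _ _ fun a => rfl
  let g : FractionRing A ≃ₐ[A] FractionRing (CAlg2.red A) :=
    IsLocalization.algEquiv (nonZeroDivisors A) _ _
  haveI : Algebra.IsIntegral A (CAlg2.red A) :=
    ⟨RingHom.isIntegral_of_surjective _ Ideal.Quotient.mk_surjective⟩
  exact ⟨{ toFun := fun z => ⟨g z, (z.2.map g.toAlgHom).tower_top⟩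
           map_add' := fun x y => Subtype.ext (map_add g _ _)
           map_smul' := fun c x => Subtype.ext (map_smul g c x.1)
           invFun := fun z => ⟨g.symm z, (isIntegral_trans (R := A) z.1 z.2).map g.symm.toAlgHom⟩
           left_inv := fun z => Subtype.ext (g.symm_apply_apply z.1)
           right_inv := fun z => Subtype.ext (g.apply_symm_apply z.1) }, Subtype.ext (map_one g)⟩

variable [IsNoetherianRing A] [IsLocalRing A]

set_option maxHeartbeats 1000000 in
theorem numGeomBranches_le (hN : CAlg.IsNagata A) :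
    Brnch.numGeomBranches A ≤ Curv2.deltaInv A + 1 := by
  classical
  obtain ⟨e, he1⟩ := exists_normRed_linearEquiv A
  haveI := finite_integralClosure A hN
  haveI : Module.Finite A (CAlg2.normRed A) := Module.Finite.equiv e
  have hminfin : (minimalPrimes A).Finite := (⊥ : Ideal A).finite_minimalPrimes_of_isNoetherianRing A
  rw [Brnch.numGeomBranches, if_pos hminfin]
  haveI : Algebra.IsIntegral A (CAlg2.normRed A) := Algebra.IsIntegral.of_finite A (CAlg2.normRed A)
  haveI : IsNoetherianRing (CAlg2.normRed A) := IsNoetherianRing.of_finite A (CAlg2.normRed A)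
  have hlie : ∀ m : MaximalSpectrum (CAlg2.normRed A), m.asIdeal.comap (algebraMap A (CAlg2.normRed A)) = IsLocalRing.maximalIdeal A :=
    fun m => by
      haveI := m.isMaximal
      exact IsLocalRing.eq_maximalIdeal (Ideal.isMaximal_comap_of_isIntegral_of_isMaximal m.asIdeal)
  haveI : Finite ((IsLocalRing.maximalIdeal A).map (algebraMap A (CAlg2.normRed A))).minimalPrimes :=
    (((IsLocalRing.maximalIdeal A).map (algebraMap A (CAlg2.normRed A))).finite_minimalPrimes_of_isNoetherianRing (CAlg2.normRed A)).to_subtype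
  haveI : Finite (MaximalSpectrum (CAlg2.normRed A)) := by
    refine Finite.of_injective (β := ((IsLocalRing.maximalIdeal A).map (algebraMap A (CAlg2.normRed A))).minimalPrimes)
      (fun m => ⟨m.asIdeal, by
        haveI := m.isMaximal
        rw [← hlie m]
        exact Ideal.IsIntegral.mem_minimalPrimes_map_under m.asIdeal⟩)
      (fun m m' h => MaximalSpectrum.ext (congrArg Subtype.val h)) |>
        fun f => ?_
    exact f
  haveI := Fintype.ofFinite (MaximalSpectrum (CAlg2.normRed A))
  letI algk : ∀ m : MaximalSpectrum (CAlg2.normRed A), Algebra (IsLocalRing.ResidueField A) ((CAlg2.normRed A) ⧸ m.asIdeal) := fun m =>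
    RingHom.toAlgebra (R := IsLocalRing.ResidueField A) (S := CAlg2.normRed A ⧸ m.asIdeal)
    (show IsLocalRing.ResidueField A →+* (CAlg2.normRed A) ⧸ m.asIdeal from Ideal.Quotient.lift (IsLocalRing.maximalIdeal A)
      ((Ideal.Quotient.mk m.asIdeal).comp (algebraMap A (CAlg2.normRed A)))
      (fun a ha => Ideal.Quotient.eq_zero_iff_mem.2 (by rw [← hlie m] at ha; exact ha)))
  haveI : ∀ m : MaximalSpectrum (CAlg2.normRed A), IsScalarTower A (IsLocalRing.ResidueField A) ((CAlg2.normRed A) ⧸ m.asIdeal) := fun m =>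
    IsScalarTower.of_algebraMap_eq fun a => rfl
  letI : ∀ m : MaximalSpectrum (CAlg2.normRed A), Field ((CAlg2.normRed A) ⧸ m.asIdeal) := fun m => Ideal.Quotient.field m.asIdeal
  haveI : ∀ m : MaximalSpectrum (CAlg2.normRed A), Module.Finite (IsLocalRing.ResidueField A) ((CAlg2.normRed A) ⧸ m.asIdeal) := fun m =>
    Module.Finite.of_restrictScalars_finite A (IsLocalRing.ResidueField A) _
  have hd : ∀ m : MaximalSpectrum (CAlg2.normRed A), ENat.card (Brnch.Emb A m) ≤
      Module.length A ((CAlg2.normRed A) ⧸ m.asIdeal) := by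
    intro m
    let ι : Brnch.Emb A m → (((CAlg2.normRed A) ⧸ m.asIdeal) →ₐ[(IsLocalRing.ResidueField A)] AlgebraicClosure (IsLocalRing.ResidueField A)) := fun σ =>
      { σ.1 with
        commutes' := fun c => by
          obtain ⟨a, rfl⟩ := IsLocalRing.residue_surjective c
          exact congrArg (fun φ => φ a) σ.2 }
    have hι : Function.Injective ι := fun σ τ h =>
      Subtype.ext (RingHom.ext fun x => AlgHom.congr_fun h x)
    refine (ENat.card_le_card_of_injective hι).trans ?_
    have h1 : Module.length A ((CAlg2.normRed A) ⧸ m.asIdeal) = Module.finrank (IsLocalRing.ResidueField A) ((CAlg2.normRed A) ⧸ m.asIdeal) := by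
      rw [Module.length_eq_of_surjective (S := A) (R := (IsLocalRing.ResidueField A)) IsLocalRing.residue_surjective,
        Module.length_eq_finrank]
    rw [h1]
    haveI := Fintype.ofFinite (((CAlg2.normRed A) ⧸ m.asIdeal) →ₐ[(IsLocalRing.ResidueField A)] AlgebraicClosure (IsLocalRing.ResidueField A))
    rw [ENat.card_eq_coe_fintype_card, ← Nat.card_eq_fintype_card]
    exact_mod_cast card_algHom_le_finrank (IsLocalRing.ResidueField A) ((CAlg2.normRed A) ⧸ m.asIdeal) (AlgebraicClosure (IsLocalRing.ResidueField A))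
  have hsum : ENat.card (Σ m, Brnch.Emb A m) ≤ ∑ m : MaximalSpectrum (CAlg2.normRed A), Module.length A ((CAlg2.normRed A) ⧸ m.asIdeal) := by
    haveI : ∀ m, Finite (Brnch.Emb A m) := fun m => by
      refine ENat.card_lt_top.1 ((hd m).trans_lt ?_)
      rw [Module.length_eq_of_surjective (S := A) (R := (IsLocalRing.ResidueField A)) IsLocalRing.residue_surjective]
      exact lt_top_iff_ne_top.2 Module.length_ne_top
    haveI := fun m => Fintype.ofFinite (Brnch.Emb A m)
    rw [ENat.card_eq_coe_fintype_card, Fintype.card_sigma, Nat.cast_sum]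
    exact Finset.sum_le_sum fun m _ => ENat.card_eq_coe_fintype_card (α := Brnch.Emb A m) ▸ hd m
  refine hsum.trans ?_
  rw [← Module.length_pi_of_fintype]
  let Φ : (CAlg2.normRed A) →ₗ[A] ∀ m : MaximalSpectrum (CAlg2.normRed A), (CAlg2.normRed A) ⧸ m.asIdeal :=
    LinearMap.pi fun m => ((Ideal.Quotient.mkₐ A m.asIdeal)).toLinearMap
  have hΦ : Function.Surjective Φ := fun y => by
    obtain ⟨x, hx⟩ := Ideal.quotientInfToPiQuotient_surj
      (I := fun m : MaximalSpectrum (CAlg2.normRed A) => m.asIdeal) (fun m m' h => by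
        haveI := m.isMaximal; haveI := m'.isMaximal
        exact Ideal.isCoprime_of_isMaximal fun hh => h (MaximalSpectrum.ext hh)) y
    obtain ⟨x, rfl⟩ := Ideal.Quotient.mk_surjective x
    exact ⟨x, funext fun m => congrFun hx m⟩
  let R₀ : Submodule A (∀ m : MaximalSpectrum (CAlg2.normRed A), (CAlg2.normRed A) ⧸ m.asIdeal) :=
    LinearMap.range (Φ ∘ₗ Algebra.linearMap A (CAlg2.normRed A))
  rw [Module.length_eq_add_of_exact R₀.subtype R₀.mkQ R₀.subtype_injective R₀.mkQ_surjective
    (LinearMap.exact_subtype_mkQ R₀), add_comm]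
  refine add_le_add ?_ ?_
  · have hN' : Curv2.deltaInv A = Module.length A ((CAlg2.normRed A) ⧸ LinearMap.range (Algebra.linearMap A (CAlg2.normRed A))) := by
      refine LinearEquiv.length_eq (Submodule.Quotient.equiv _ _ e ?_)
      ext z
      simp only [Submodule.mem_map, LinearMap.mem_range, Algebra.linearMap_apply,
        LinearEquiv.coe_coe]
      constructor
      · rintro ⟨_, ⟨a, rfl⟩, rfl⟩
        exact ⟨a, by rw [Algebra.algebraMap_eq_smul_one, Algebra.algebraMap_eq_smul_one, map_smul,
          he1]⟩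
      · rintro ⟨a, rfl⟩
        exact ⟨_, ⟨a, rfl⟩, by rw [Algebra.algebraMap_eq_smul_one, Algebra.algebraMap_eq_smul_one,
          map_smul, he1]⟩
    rw [hN']
    refine Module.length_le_of_surjective ((LinearMap.range (Algebra.linearMap A (CAlg2.normRed A))).mapQ R₀ Φ ?_)
      fun y => ?_
    · rintro _ ⟨a, rfl⟩; exact ⟨a, rfl⟩
    · obtain ⟨y, rfl⟩ := R₀.mkQ_surjective y
      obtain ⟨x, rfl⟩ := hΦ y
      exact ⟨Submodule.Quotient.mk x, rfl⟩
  · refine le_trans (Module.length_le_of_surjective
      ((IsLocalRing.maximalIdeal A).liftQ (Φ ∘ₗ Algebra.linearMap A (CAlg2.normRed A)).rangeRestrict ?_)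
      fun y => ?_) (le_of_eq (Module.length_eq_one_iff.2
        (isSimpleModule_iff_isCoatom.2 (Ideal.isMaximal_def.1 (IsLocalRing.maximalIdeal.isMaximal A)))))
    · intro a ha
      refine Subtype.ext (funext fun m => ?_)
      exact Ideal.Quotient.eq_zero_iff_mem.2 (by rw [← hlie m] at ha; exact ha)
    · obtain ⟨x, rfl⟩ := LinearMap.surjective_rangeRestrict _ y
      exact ⟨Submodule.Quotient.mk x, rfl⟩

end Groth.L22.Norm
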