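import Groth.Agent.L22.Norm.Branch
import Groth.Agent.L22.Norm.GeomBranch
import Groth.Agent.L22.BM.NormIso
import Groth.Agent.L20.PushStalk
import Groth.Agent.L00.StalkFunctor
import Groth.Prelude.Def_ClSub2
import Groth.Prelude.Def_StMod

/-!
The cokernel of `O_X → ν_* O` for the normalisation of an integral Nagata scheme.
-/

universe u

open AlgebraicGeometry CategoryTheory CategoryTheory.Limits

namespace Groth.L22.Norm

variable (X : Scheme.{u}) [IsIntegral X]
  [QuasiCompact (X.fromSpecStalk (genericPoint X))]
  [QuasiSeparated (X.fromSpecStalk (genericPoint X))]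

theorem app_injective {U : X.Opens} (hU : IsAffineOpen U) (hne : (U : Set X).Nonempty) :
    Function.Injective ((Curv2.normalizationι X).app U).hom := by
  haveI : Nonempty U := hne.to_subtype
  letI : Algebra Γ(X, U) Γ(Curv2.normalization X, Curv2.normalizationι X ⁻¹ᵁ U) :=
    ((Curv2.normalizationι X).app U).hom.toAlgebra
  obtain ⟨κ, hT, -⟩ := exists_isIntegralClosure X hU hne
  letI := κ.toAlgebra
  haveI := hT
  haveI : IsFractionRing Γ(X, U) X.functionField :=
    functionField_isFractionRing_of_isAffineOpen X U hU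
  intro a b h
  apply IsFractionRing.injective Γ(X, U) X.functionField
  rw [IsScalarTower.algebraMap_apply Γ(X, U)
    Γ(Curv2.normalization X, Curv2.normalizationι X ⁻¹ᵁ U) X.functionField,
    IsScalarTower.algebraMap_apply Γ(X, U)
    Γ(Curv2.normalization X, Curv2.normalizationι X ⁻¹ᵁ U) X.functionField]
  exact congrArg (algebraMap _ _) h

theorem mono_unitToPush : Mono (ClSub.unitToPush (Curv2.normalizationι X)) := by
  have key : ∀ U : X.Opens, Function.Injective ((Curv2.normalizationι X).app U).hom := fun U => by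
    refine (injective_iff_map_eq_zero _).2 fun a ha => ?_
    by_cases hne : (U : Set X).Nonempty
    · obtain ⟨x, hx⟩ := hne
      haveI : Nonempty U := ⟨⟨x, hx⟩⟩
      obtain ⟨W, hW, hxW, hWU'⟩ := exists_isAffineOpen_mem_and_subset (U := U) hx
      have hWU : W ≤ U := hWU'
      have h := ConcreteCategory.congr_hom ((Curv2.normalizationι X).naturality (homOfLE hWU).op) a
      simp only [CommRingCat.comp_apply] at h
      rw [ha, map_zero] at h
      have h0 := app_injective X hW ⟨x, hxW⟩ (h.trans (map_zero _).symm)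
      refine germ_injective_of_isIntegral X x hx ?_
      rw [map_zero, ← TopCat.Presheaf.germ_res_apply X.presheaf (homOfLE hWU) x hxW a, h0, map_zero]
    · haveI : Subsingleton Γ(X, U) := by
        rw [show U = ⊥ from TopologicalSpace.Opens.ext (Set.not_nonempty_iff_eq_empty.1 hne)]
        infer_instance
      exact Subsingleton.elim _ _
  refine (Scheme.Modules.toPresheaf X).mono_of_mono_map ?_
  haveI : ∀ U, Mono (((Scheme.Modules.toPresheaf X).map
      (ClSub.unitToPush (Curv2.normalizationι X))).app U) := fun U =>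
    ConcreteCategory.mono_of_injective _ (key U.unop)
  exact NatTrans.mono_of_mono_app _

theorem isFinite_normalizationι (hN : ∀ U : X.affineOpens, CAlg.IsNagata Γ(X, (U : X.Opens))) :
    IsFinite (Curv2.normalizationι X) := by
  haveI : IsIntegralHom (Curv2.normalizationι X) :=
    inferInstanceAs (IsIntegralHom (X.fromSpecStalk (genericPoint X)).fromNormalization)
  refine { toIsAffineHom := inferInstance, finite_app := fun {U} hU => ?_ }
  by_cases hne : (U : Set X).Nonempty
  · haveI : Nonempty U := hne.to_subtype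
    letI : Algebra Γ(X, U) Γ(Curv2.normalization X, Curv2.normalizationι X ⁻¹ᵁ U) :=
      ((Curv2.normalizationι X).app U).hom.toAlgebra
    obtain ⟨κ, hT, hIC⟩ := exists_isIntegralClosure X hU hne
    letI := κ.toAlgebra
    haveI := hT; haveI := hIC
    haveI : IsFractionRing Γ(X, U) X.functionField :=
      functionField_isFractionRing_of_isAffineOpen X U hU
    haveI : IsNoetherianRing Γ(X, U) := (hN ⟨U, hU⟩).1
    haveI := finite_integralClosure Γ(X, U) (hN ⟨U, hU⟩)
    let e : X.functionField ≃ₐ[Γ(X, U)] FractionRing Γ(X, U) :=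
      IsLocalization.algEquiv (nonZeroDivisors Γ(X, U)) _ _
    let g : Γ(Curv2.normalization X, Curv2.normalizationι X ⁻¹ᵁ U) →ₗ[Γ(X, U)]
        integralClosure Γ(X, U) (FractionRing Γ(X, U)) :=
      LinearMap.codRestrict (Subalgebra.toSubmodule (integralClosure Γ(X, U) (FractionRing Γ(X, U))))
        (e.toLinearMap ∘ₗ (IsScalarTower.toAlgHom Γ(X, U) _ X.functionField).toLinearMap)
        fun b => (IsIntegralClosure.isIntegral Γ(X, U) X.functionField b).map
          (e.toAlgHom.comp (IsScalarTower.toAlgHom Γ(X, U)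
            Γ(Curv2.normalization X, Curv2.normalizationι X ⁻¹ᵁ U) X.functionField))
    exact Module.Finite.of_injective g fun a b h =>
      IsIntegralClosure.algebraMap_injective _ Γ(X, U) X.functionField
        (e.injective (congrArg Subtype.val h))
  · haveI : Subsingleton Γ(Curv2.normalization X, Curv2.normalizationι X ⁻¹ᵁ U) := by
      rw [show Curv2.normalizationι X ⁻¹ᵁ U = ⊥ from TopologicalSpace.Opens.ext
        (Set.eq_empty_of_forall_notMem fun y hy => hne ⟨_, hy⟩)]
      infer_instance
    exact RingHom.Finite.of_surjective _ fun z => ⟨0, Subsingleton.elim _ _⟩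

set_option maxHeartbeats 1000000 in
/-- The stalks of the cokernel of `O → ν_*O` are the normalised local rings modulo the local rings. -/
theorem length_stalk_cokernel (x : X) :
    Module.length (X.presheaf.stalk x)
        ((cokernel (ClSub.unitToPush (Curv2.normalizationι X))).presheaf.stalk x) =
      Curv2.deltaInv (X.presheaf.stalk x) := by
  obtain ⟨U, hU, hxU, -⟩ := exists_isAffineOpen_mem_and_subset (TopologicalSpace.Opens.mem_top x)
  have hne : (U : Set X).Nonempty := ⟨x, hxU⟩
  haveI : Nonempty U := hne.to_subtype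
  letI algAB : Algebra Γ(X, U) Γ(Curv2.normalization X, Curv2.normalizationι X ⁻¹ᵁ U) :=
    ((Curv2.normalizationι X).app U).hom.toAlgebra
  obtain ⟨κ, hT, hIC⟩ := exists_isIntegralClosure X hU hne
  letI := κ.toAlgebra
  haveI := hT; haveI := hIC
  haveI : IsFractionRing Γ(X, U) X.functionField :=
    functionField_isFractionRing_of_isAffineOpen X U hU
  haveI : IsIntegralHom (Curv2.normalizationι X) :=
    inferInstanceAs (IsIntegralHom (X.fromSpecStalk (genericPoint X)).fromNormalization)
  have hV : IsAffineOpen (Curv2.normalizationι X ⁻¹ᵁ U) := hU.preimage _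
  haveI := StMod.isQCoh_structureModule (Curv2.normalization X)
  let p := (hU.primeIdealOf ⟨x, hxU⟩).asIdeal
  letI algAO : Algebra Γ(X, U) (X.presheaf.stalk x) :=
    TopCat.Presheaf.algebra_section_stalk X.presheaf ⟨x, hxU⟩
  haveI hlocO : IsLocalization.AtPrime (X.presheaf.stalk x) p := hU.isLocalization_stalk ⟨x, hxU⟩
  obtain ⟨j, hj, hloc⟩ := exists_isLocalization_normRed (K := X.functionField)
    (B := Γ(Curv2.normalization X, Curv2.normalizationι X ⁻¹ᵁ U)) (O := X.presheaf.stalk x) p
  letI algBN := j.toAlgebra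
  haveI := hloc
  haveI : IsScalarTower Γ(X, U) Γ(Curv2.normalization X, Curv2.normalizationι X ⁻¹ᵁ U)
      (CAlg2.normRed (X.presheaf.stalk x)) :=
    IsScalarTower.of_algebraMap_eq fun a => (congrArg (fun φ => φ a) hj).symm.trans rfl |>.trans rfl
  let P := (Scheme.Modules.pushforward (Curv2.normalizationι X)).obj
    (Coh.structureModule (Curv2.normalization X))
  letI := Groth.L20.ModStalk.stalkModule P hxU
  haveI := Groth.L20.ModStalk.isLocalizedModule_germ_push (Curv2.normalizationι X)
    (Coh.structureModule (Curv2.normalization X)) hU hV hxU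
  let gP : Γ(Curv2.normalization X, Curv2.normalizationι X ⁻¹ᵁ U) →ₗ[Γ(X, U)] P.presheaf.stalk x :=
    { toFun := fun b => Groth.L20.ModStalk.germₗ P hxU b
      map_add' := fun b b' => map_add (Groth.L20.ModStalk.germₗ P hxU) b b'
      map_smul' := fun a b => (Groth.L20.ModStalk.germₗ P hxU).map_smul a b }
  haveI hgP : IsLocalizedModule p.primeCompl gP :=
    Groth.L20.ModStalk.isLocalizedModule_germ_push (Curv2.normalizationι X)
      (Coh.structureModule (Curv2.normalization X)) hU hV hxU
  haveI hgN : IsLocalizedModule p.primeCompl (IsScalarTower.toAlgHom Γ(X, U)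
      Γ(Curv2.normalization X, Curv2.normalizationι X ⁻¹ᵁ U)
      (CAlg2.normRed (X.presheaf.stalk x))).toLinearMap :=
    isLocalizedModule_iff_isLocalization.2 hloc
  haveI : IsScalarTower Γ(X, U) (X.presheaf.stalk x) (P.presheaf.stalk x) :=
    IsScalarTower.of_algebraMap_smul fun _ _ => rfl
  haveI : IsScalarTower Γ(X, U) (X.presheaf.stalk x) (CAlg2.normRed (X.presheaf.stalk x)) :=
    IsScalarTower.of_algebraMap_eq fun a => rfl
  let e₀ := (IsLocalizedModule.linearEquiv p.primeCompl (IsScalarTower.toAlgHom Γ(X, U)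
      Γ(Curv2.normalization X, Curv2.normalizationι X ⁻¹ᵁ U)
      (CAlg2.normRed (X.presheaf.stalk x))).toLinearMap gP)
  let e : CAlg2.normRed (X.presheaf.stalk x) ≃ₗ[X.presheaf.stalk x] P.presheaf.stalk x :=
    e₀.extendScalarsOfIsLocalization p.primeCompl (X.presheaf.stalk x)
  obtain ⟨e', he'⟩ := exists_normRed_linearEquiv (X.presheaf.stalk x)
  have he1 : e 1 = gP 1 := by
    have h1 := IsLocalizedModule.linearEquiv_apply p.primeCompl (IsScalarTower.toAlgHom Γ(X, U)
      Γ(Curv2.normalization X, Curv2.normalizationι X ⁻¹ᵁ U)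
      (CAlg2.normRed (X.presheaf.stalk x))).toLinearMap gP 1
    rw [AlgHom.toLinearMap_apply, map_one] at h1
    exact h1
  let ω := (Groth.L00.Stk.F X x).map (ClSub.unitToPush (Curv2.normalizationι X))
  let E : integralClosure (X.presheaf.stalk x) (FractionRing (X.presheaf.stalk x)) ≃ₗ[X.presheaf.stalk x]
      P.presheaf.stalk x := e'.trans e
  have hrange : Submodule.map E.toLinearMap (LinearMap.range (Algebra.linearMap (X.presheaf.stalk x)
      (integralClosure (X.presheaf.stalk x) (FractionRing (X.presheaf.stalk x))))) =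
      LinearMap.range ω.hom := by
    have hω : ∀ (V : X.Opens) (hx : x ∈ V) (s : Γ(X, V)),
        ω.hom ((Coh.structureModule X).presheaf.germ V x hx s) =
          P.presheaf.germ V x hx ((Curv2.normalizationι X).app V s) := fun V hx s =>
      TopCat.Presheaf.stalkFunctor_map_germ_apply V x hx
        ((Scheme.Modules.toPresheaf X).map (ClSub.unitToPush (Curv2.normalizationι X))) s
    have h1 : ω.hom ((Coh.structureModule X).presheaf.germ U x hxU (1 : Γ(X, U))) = E 1 := by
      rw [hω, map_one]
      show gP 1 = e (e' 1)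
      rw [he', he1]
    have hgen : ∀ z, ∃ r : X.presheaf.stalk x,
        z = r • (Coh.structureModule X).presheaf.germ U x hxU (1 : Γ(X, U)) := fun z => by
      obtain ⟨V, hx, s, rfl⟩ := TopCat.Presheaf.germ_exist (Coh.structureModule X).presheaf z
      refine ⟨X.presheaf.germ V x hx s, ?_⟩
      have h2 : (Coh.structureModule X).presheaf.germ U x hxU (1 : Γ(X, U)) =
          (Coh.structureModule X).presheaf.germ V x hx (1 : Γ(X, V)) := by
        rw [← TopCat.Presheaf.germ_res_apply (Coh.structureModule X).presheaf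
            (homOfLE (inf_le_left : U ⊓ V ≤ U)) x ⟨hxU, hx⟩ (1 : Γ(X, U)),
          ← TopCat.Presheaf.germ_res_apply (Coh.structureModule X).presheaf
            (homOfLE (inf_le_right : U ⊓ V ≤ V)) x ⟨hxU, hx⟩ (1 : Γ(X, V))]
        exact congrArg _ ((map_one (X.presheaf.map (homOfLE (inf_le_left : U ⊓ V ≤ U)).op).hom).trans
          (map_one (X.presheaf.map (homOfLE (inf_le_right : U ⊓ V ≤ V)).op).hom).symm)
      rw [h2, ← Groth.L20.ModStalk.germ_smul (Coh.structureModule X) hx]
      exact congrArg _ (mul_one (show Γ(X, V) from s)).symm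
    ext y
    simp only [Submodule.mem_map, LinearMap.mem_range, Algebra.linearMap_apply, LinearEquiv.coe_coe]
    constructor
    · rintro ⟨_, ⟨r, rfl⟩, rfl⟩
      exact ⟨r • (Coh.structureModule X).presheaf.germ U x hxU (1 : Γ(X, U)),
        (ω.hom.map_smul r _).trans (by rw [h1, Algebra.algebraMap_eq_smul_one, map_smul]; rfl)⟩
    · rintro ⟨z, rfl⟩
      obtain ⟨r, rfl⟩ := hgen z
      exact ⟨_, ⟨r, rfl⟩, ((ω.hom.map_smul r _).trans
        (by rw [h1, Algebra.algebraMap_eq_smul_one, map_smul]; rfl)).symm⟩
  haveI : PreservesColimit (parallelPair (ClSub.unitToPush (Curv2.normalizationι X)) 0)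
    (Groth.L00.Stk.F X x) := inferInstance
  let i1 := (PreservesCokernel.iso (Groth.L00.Stk.F X x) (ClSub.unitToPush (Curv2.normalizationι X)) ≪≫
    ModuleCat.cokernelIsoRangeQuotient ω).toLinearEquiv
  exact i1.length_eq.trans (Submodule.Quotient.equiv _ _ E hrange).length_eq.symm

end Groth.L22.Norm
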