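import Groth.Prelude.Def_Curv2
import Groth.Agent.L22.SchemeDim
import Mathlib.AlgebraicGeometry.Normalization
import Mathlib.AlgebraicGeometry.FunctionField

/-!
The normalisation of an integral scheme over an affine open is the integral closure in the
function field.
-/

universe u

open AlgebraicGeometry CategoryTheory

namespace Groth.L22.Norm

variable (X : Scheme.{u}) [IsIntegral X]
  [QuasiCompact (X.fromSpecStalk (genericPoint X))]
  [QuasiSeparated (X.fromSpecStalk (genericPoint X))]

theorem genericPoint_mem {U : X.Opens} (h : (U : Set X).Nonempty) : genericPoint X ∈ U :=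
  ((genericPoint_spec X).mem_open_set_iff U.2).2 (by simpa using h)

theorem preimage_eq_top {U : X.Opens} (hη : genericPoint X ∈ U) :
    X.fromSpecStalk (genericPoint X) ⁻¹ᵁ U = ⊤ := by
  refine TopologicalSpace.Opens.ext (Set.eq_univ_of_forall fun p => ?_)
  haveI : Subsingleton (Spec (X.presheaf.stalk (genericPoint X))) :=
    inferInstanceAs (Subsingleton (PrimeSpectrum (X.functionField)))
  show X.fromSpecStalk (genericPoint X) p ∈ U
  rw [Subsingleton.elim p (IsLocalRing.closedPoint _), Scheme.fromSpecStalk_closedPoint]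
  exact hη

/-- The sections of the normalisation over an affine open are the integral closure in the
function field. -/
theorem exists_isIntegralClosure {U : X.Opens} (hU : IsAffineOpen U) (hne : (U : Set X).Nonempty) :
    haveI : Nonempty U := hne.to_subtype
    letI : Algebra Γ(X, U) Γ(Curv2.normalization X, Curv2.normalizationι X ⁻¹ᵁ U) :=
      ((Curv2.normalizationι X).app U).hom.toAlgebra
    ∃ κ : Γ(Curv2.normalization X, Curv2.normalizationι X ⁻¹ᵁ U) →+* X.functionField,
      letI := κ.toAlgebra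
      IsScalarTower Γ(X, U) Γ(Curv2.normalization X, Curv2.normalizationι X ⁻¹ᵁ U) X.functionField ∧
      IsIntegralClosure Γ(Curv2.normalization X, Curv2.normalizationι X ⁻¹ᵁ U) Γ(X, U)
        X.functionField := by
  haveI : Nonempty U := hne.to_subtype
  letI : Algebra Γ(X, U) Γ(Curv2.normalization X, Curv2.normalizationι X ⁻¹ᵁ U) :=
    ((Curv2.normalizationι X).app U).hom.toAlgebra
  let f := X.fromSpecStalk (genericPoint X)
  have hη := genericPoint_mem X hne
  have htop : f ⁻¹ᵁ U = ⊤ := preimage_eq_top X hη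
  have hle : f ⁻¹ᵁ U ≤ f.toNormalization ⁻¹ᵁ (f.fromNormalization ⁻¹ᵁ U) := by
    rw [← Scheme.Hom.comp_preimage, f.toNormalization_fromNormalization]
  let θ0 : X.functionField ⟶ Γ(Spec (X.presheaf.stalk (genericPoint X)), f ⁻¹ᵁ U) :=
    (Scheme.ΓSpecIso _).inv ≫
      (Spec (X.presheaf.stalk (genericPoint X))).presheaf.map (homOfLE le_top).op
  haveI hiso : IsIso θ0 := by
    haveI : IsIso (homOfLE (le_top : f ⁻¹ᵁ U ≤ ⊤)) :=
      ⟨⟨eqToHom htop.symm, Subsingleton.elim _ _, Subsingleton.elim _ _⟩⟩
    infer_instance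
  have hfapp : f.app U = X.presheaf.germ U _ hη ≫ θ0 := Scheme.fromSpecStalk_app hη
  let κ₀ : Γ(f.normalization, f.fromNormalization ⁻¹ᵁ U) ⟶ X.functionField :=
    f.toNormalization.appLE _ _ hle ≫ inv θ0
  let κ : Γ(Curv2.normalization X, Curv2.normalizationι X ⁻¹ᵁ U) ⟶ X.functionField := κ₀
  have hcomm : f.fromNormalization.app U ≫ κ₀ = X.presheaf.germ U _ hη := by
    rw [← cancel_mono θ0, Category.assoc, Category.assoc, IsIso.inv_hom_id, Category.comp_id,
      ← hfapp, Scheme.Hom.app_eq_appLE, Scheme.Hom.appLE_comp_appLE, Scheme.Hom.app_eq_appLE]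
    congr 1
    exact f.toNormalization_fromNormalization
  letI algκ := κ.hom.toAlgebra
  refine ⟨κ.hom, IsScalarTower.of_algebraMap_eq fun a => ?_, ?_⟩
  · exact (congrArg (fun φ => φ.hom a) hcomm).symm
  letI algf := (f.app U).hom.toAlgebra
  have hval := f.normalizationObjIso_hom_val hU
  have hbij : Function.Bijective (inv θ0).hom := ConcreteCategory.bijective_of_isIso (inv θ0)
  have hκb : ∀ b, κ.hom b = (inv θ0).hom (((f.normalizationObjIso hU).hom.hom b).1) := fun b => by
    show (inv θ0).hom ((f.toNormalization.appLE _ _ hle).hom b) = _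
    exact congrArg (inv θ0).hom (congrArg (fun φ => φ.hom b) hval).symm
  refine ⟨fun a b h => ?_, fun {x} => ?_⟩
  · have h' : κ.hom a = κ.hom b := h
    rw [hκb, hκb] at h'
    exact (ConcreteCategory.bijective_of_isIso (f.normalizationObjIso hU).hom).1
      (Subtype.ext (hbij.1 h'))
  constructor
  · intro hx
    have hmem : θ0.hom x ∈ integralClosure Γ(X, U)
        Γ(Spec (X.presheaf.stalk (genericPoint X)), f ⁻¹ᵁ U) := by
      obtain ⟨p, hp, hpx⟩ := hx
      refine ⟨p, hp, ?_⟩
      have h2 : (f.app U).hom = θ0.hom.comp (algebraMap Γ(X, U) X.functionField) :=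
        congrArg CommRingCat.Hom.hom hfapp
      rw [RingHom.algebraMap_toAlgebra, h2, ← Polynomial.hom_eval₂, hpx, map_zero]
    obtain ⟨b, hb⟩ := (ConcreteCategory.bijective_of_isIso (f.normalizationObjIso hU).hom).2
      ⟨θ0.hom x, hmem⟩
    refine ⟨b, ?_⟩
    show κ.hom b = x
    rw [hκb]
    refine (congrArg (fun z => (inv θ0).hom z.1) hb).trans ?_
    exact congrArg (fun φ => φ.hom x) (IsIso.hom_inv_id θ0)
  · rintro ⟨b, rfl⟩
    haveI : Algebra.IsIntegral Γ(X, U) Γ(Curv2.normalization X, Curv2.normalizationι X ⁻¹ᵁ U) :=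
      ⟨f.fromNormalization.isIntegral_app U hU⟩
    haveI : IsScalarTower Γ(X, U) Γ(Curv2.normalization X, Curv2.normalizationι X ⁻¹ᵁ U)
        X.functionField :=
      IsScalarTower.of_algebraMap_eq fun a => (congrArg (fun φ => φ.hom a) hcomm).symm
    exact (Algebra.IsIntegral.isIntegral (R := Γ(X, U)) b).algebraMap

end Groth.L22.Norm
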