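import Groth.Agent.L22.Norm.Affine
import Groth.Agent.L02.KrullAkizuki
import Mathlib.AlgebraicGeometry.Noetherian
import Mathlib.RingTheory.DedekindDomain.Dvr

/-!
The normalisation of a one-dimensional integral locally Noetherian scheme.
-/

universe u

open AlgebraicGeometry CategoryTheory Topology

namespace Groth.L22.Norm

variable (X : Scheme.{u}) [IsIntegral X] [IsLocallyNoetherian X]
  [QuasiCompact (X.fromSpecStalk (genericPoint X))]
  [QuasiSeparated (X.fromSpecStalk (genericPoint X))]

theorem affine_main (hdim : topologicalKrullDim X = 1) {U : X.Opens} (hU : IsAffineOpen U)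
    (hne : (U : Set X).Nonempty) :
    letI : Algebra Γ(X, U) Γ(Curv2.normalization X, Curv2.normalizationι X ⁻¹ᵁ U) :=
      ((Curv2.normalizationι X).app U).hom.toAlgebra
    IsDedekindDomain Γ(Curv2.normalization X, Curv2.normalizationι X ⁻¹ᵁ U) ∧
      (∀ p : PrimeSpectrum Γ(X, U), (PrimeSpectrum.comap (algebraMap Γ(X, U)
        Γ(Curv2.normalization X, Curv2.normalizationι X ⁻¹ᵁ U)) ⁻¹' {p}).Finite) ∧
      ∀ Q : Ideal Γ(Curv2.normalization X, Curv2.normalizationι X ⁻¹ᵁ U), Q.IsMaximal →
        Module.Finite (Γ(X, U) ⧸ Q.comap (algebraMap Γ(X, U)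
          Γ(Curv2.normalization X, Curv2.normalizationι X ⁻¹ᵁ U)))
          (Γ(Curv2.normalization X, Curv2.normalizationι X ⁻¹ᵁ U) ⧸ Q) := by
  haveI : Nonempty U := hne.to_subtype
  letI : Algebra Γ(X, U) Γ(Curv2.normalization X, Curv2.normalizationι X ⁻¹ᵁ U) :=
    ((Curv2.normalizationι X).app U).hom.toAlgebra
  obtain ⟨κ, hT, hIC⟩ := exists_isIntegralClosure X hU hne
  letI := κ.toAlgebra
  haveI := hT
  haveI := hIC
  haveI : IsFractionRing Γ(X, U) X.functionField :=
    functionField_isFractionRing_of_isAffineOpen X U hU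
  haveI : IsNoetherianRing Γ(X, U) := IsLocallyNoetherian.component_noetherian ⟨U, hU⟩
  haveI : IsDomain Γ(Curv2.normalization X, Curv2.normalizationι X ⁻¹ᵁ U) :=
    (IsIntegralClosure.algebraMap_injective _ Γ(X, U) X.functionField).isDomain
  haveI : Ring.KrullDimLE 1 Γ(X, U) := by
    rw [Ring.krullDimLE_iff, ← SchemeDim.topologicalKrullDim_affineOpen hU]
    exact ((IsEmbedding.subtypeVal (p := fun x : X => x ∈ (U : Set X))).isInducing.topologicalKrullDim_le).trans hdim.le
  haveI : Ring.DimensionLEOne Γ(X, U) := ⟨fun {P} hP0 hP => hP.isMaximal_of_ne_bot hP0⟩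
  have h := Groth.L02.KrullAkizuki.main X.functionField X.functionField
    (A := Γ(X, U)) (B := Γ(Curv2.normalization X, Curv2.normalizationι X ⁻¹ᵁ U))
  exact ⟨h.1, h.2.2.1, h.2.2.2⟩

/-- The normalisation has finite fibres. -/
theorem finite_fibre (hdim : topologicalKrullDim X = 1) (x : X) :
    Finite {x' : ↥(Curv2.normalization X) // (Curv2.normalizationι X).base x' = x} := by
  obtain ⟨U, hU, hxU, -⟩ := exists_isAffineOpen_mem_and_subset (TopologicalSpace.Opens.mem_top x)
  letI : Algebra Γ(X, U) Γ(Curv2.normalization X, Curv2.normalizationι X ⁻¹ᵁ U) :=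
    ((Curv2.normalizationι X).app U).hom.toAlgebra
  obtain ⟨-, hfin, -⟩ := affine_main X hdim hU ⟨x, hxU⟩
  haveI : IsIntegralHom (Curv2.normalizationι X) :=
    inferInstanceAs (IsIntegralHom (X.fromSpecStalk (genericPoint X)).fromNormalization)
  have hV : IsAffineOpen (Curv2.normalizationι X ⁻¹ᵁ U) := hU.preimage _
  refine Set.Finite.to_subtype (s := {x' | (Curv2.normalizationι X).base x' = x}) ?_
  refine ((hfin (hU.primeIdealOf ⟨x, hxU⟩)).image hV.fromSpec).subset ?_
  intro x' hx'
  have hx'V : x' ∈ Curv2.normalizationι X ⁻¹ᵁ U := by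
    show (Curv2.normalizationι X).base x' ∈ U
    rw [show (Curv2.normalizationι X).base x' = x from hx']
    exact hxU
  obtain ⟨q, hq⟩ := hV.range_fromSpec.ge hx'V
  refine ⟨q, ?_, hq⟩
  show PrimeSpectrum.comap _ q = hU.primeIdealOf ⟨x, hxU⟩
  refine hU.fromSpec.isOpenEmbedding.injective ?_
  rw [hU.fromSpec_primeIdealOf ⟨x, hxU⟩]
  have := congrArg (fun φ => φ q) (IsAffineOpen.SpecMap_appLE_fromSpec (Curv2.normalizationι X) hU hV le_rfl)
  rw [Scheme.Hom.app_eq_appLE] at *
  refine (this : _).trans ?_
  show Curv2.normalizationι X (hV.fromSpec q) = x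
  rw [hq]; exact hx'

set_option maxHeartbeats 1000000 in
/-- The residue field extensions of the normalisation are finite. -/
theorem finite_residueField (hdim : topologicalKrullDim X = 1) (x' : ↥(Curv2.normalization X)) :
    letI := ((Curv2.normalizationι X).residueFieldMap x').hom.toAlgebra
    Module.Finite (X.residueField ((Curv2.normalizationι X).base x'))
      ((Curv2.normalization X).residueField x') := by
  letI := ((Curv2.normalizationι X).residueFieldMap x').hom.toAlgebra
  obtain ⟨U, hU, hxU, -⟩ := exists_isAffineOpen_mem_and_subset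
    (TopologicalSpace.Opens.mem_top ((Curv2.normalizationι X).base x'))
  have hne : (U : Set X).Nonempty := ⟨_, hxU⟩
  haveI : Nonempty U := hne.to_subtype
  letI algAB : Algebra Γ(X, U) Γ(Curv2.normalization X, Curv2.normalizationι X ⁻¹ᵁ U) :=
    ((Curv2.normalizationι X).app U).hom.toAlgebra
  obtain ⟨hded, -, hfin⟩ := affine_main X hdim hU hne
  haveI := hded
  haveI : IsIntegralHom (Curv2.normalizationι X) :=
    inferInstanceAs (IsIntegralHom (X.fromSpecStalk (genericPoint X)).fromNormalization)
  have hV : IsAffineOpen (Curv2.normalizationι X ⁻¹ᵁ U) := hU.preimage _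
  have hx'V : x' ∈ Curv2.normalizationι X ⁻¹ᵁ U := hxU
  let Q := (hV.primeIdealOf ⟨x', hx'V⟩).asIdeal
  let ev' := ((Curv2.normalization X).evaluation _ x' hx'V).hom
  let ev := (X.evaluation U ((Curv2.normalizationι X).base x') hxU).hom
  let r := ((Curv2.normalizationι X).residueFieldMap x').hom
  have hnat : ∀ a, r (ev a) = ev' (algebraMap _ _ a) := fun a =>
    Scheme.evaluation_naturality_apply (Curv2.normalizationι X) x' hxU a
  have hker : ∀ b, ev' b = 0 ↔ b ∈ Q := by
    intro b
    refine ((Curv2.normalization X).evaluation_eq_zero_iff_notMem_basicOpen x' hx'V b).trans ?_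
    have hp : hV.fromSpec (hV.primeIdealOf ⟨x', hx'V⟩) = x' := hV.fromSpec_primeIdealOf ⟨x', hx'V⟩
    have : x' ∈ (Curv2.normalization X).basicOpen b ↔
        hV.primeIdealOf ⟨x', hx'V⟩ ∈ hV.fromSpec ⁻¹ᵁ (Curv2.normalization X).basicOpen b :=
      Iff.of_eq (congrArg (· ∈ (Curv2.normalization X).basicOpen b) hp.symm)
    rw [this, hV.fromSpec_preimage_basicOpen]
    exact not_not
  have hfracQ : ∀ z : (Curv2.normalization X).residueField x', ∃ b s,
      ev' s ≠ 0 ∧ z * ev' s = ev' b := by
    intro z
    obtain ⟨w, rfl⟩ := (Curv2.normalization X).residue_surjective x' z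
    letI := TopCat.Presheaf.algebra_section_stalk (Curv2.normalization X).presheaf ⟨x', hx'V⟩
    haveI := hV.isLocalization_stalk ⟨x', hx'V⟩
    obtain ⟨b, t, rfl⟩ := IsLocalization.exists_mk'_eq Q.primeCompl w
    refine ⟨b, t, fun h => t.2 ((hker _).1 h), ?_⟩
    show (Curv2.normalization X).residue x' _ * (Curv2.normalization X).residue x' (algebraMap _ _ _) =
      (Curv2.normalization X).residue x' (algebraMap _ _ _)
    rw [← map_mul, IsLocalization.mk'_spec]
  by_cases hQ : Q = ⊥
  · obtain ⟨κ, hT, hIC⟩ := exists_isIntegralClosure X hU hne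
    letI := κ.toAlgebra
    haveI := hT
    haveI := hIC
    haveI : IsFractionRing Γ(X, U) X.functionField :=
      functionField_isFractionRing_of_isAffineOpen X U hU
    have hne0 : ∀ b, b ≠ 0 → ev' b ≠ 0 := fun b hb h => hb (by
      have := (hker b).1 h; rwa [hQ, Ideal.mem_bot] at this)
    have hinj : Function.Injective (algebraMap Γ(X, U)
        Γ(Curv2.normalization X, Curv2.normalizationι X ⁻¹ᵁ U)) := fun a a' h =>
      IsFractionRing.injective Γ(X, U) X.functionField (by
        rw [IsScalarTower.algebraMap_apply Γ(X, U)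
          Γ(Curv2.normalization X, Curv2.normalizationι X ⁻¹ᵁ U) X.functionField, h,
          ← IsScalarTower.algebraMap_apply])
    have himg : ∀ b, ev' b ∈ r.fieldRange := by
      intro b
      obtain ⟨⟨a, t, ht⟩, hat⟩ := IsLocalization.surj (nonZeroDivisors Γ(X, U)) (κ b)
      have he : b * algebraMap _ _ t = algebraMap _ _ a := by
        refine IsIntegralClosure.algebraMap_injective
          Γ(Curv2.normalization X, Curv2.normalizationι X ⁻¹ᵁ U) Γ(X, U) X.functionField ?_
        rw [map_mul, ← IsScalarTower.algebraMap_apply, ← IsScalarTower.algebraMap_apply]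
        exact hat
      have ht0 : ev' (algebraMap _ _ t) ≠ 0 :=
        hne0 _ fun h => nonZeroDivisors.ne_zero ht (hinj (h.trans (map_zero _).symm))
      refine ⟨ev a / ev t, ?_⟩
      rw [map_div₀, hnat, hnat, div_eq_iff ht0, ← map_mul, he]
    have hsurj : Function.Surjective r := fun z => by
      obtain ⟨b, t, ht, hz⟩ := hfracQ z
      have hz' : z = ev' b / ev' t := by rw [eq_div_iff ht, hz]
      rw [hz']
      exact r.fieldRange.div_mem (himg b) (himg t)
    exact Module.Finite.of_surjective (Algebra.linearMap _ _) hsurj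
  haveI hQmax : Q.IsMaximal := (hV.primeIdealOf ⟨x', hx'V⟩).2.isMaximal hQ
  have hsurj : Function.Surjective ev' := fun z => by
    obtain ⟨b, t, ht, hz⟩ := hfracQ z
    obtain ⟨w, hw⟩ := (Ideal.Quotient.maximal_ideal_iff_isField_quotient Q).1 hQmax |>.mul_inv_cancel
      (show Ideal.Quotient.mk Q t ≠ 0 from fun h => ht ((hker t).2 (Ideal.Quotient.eq_zero_iff_mem.1 h)))
    obtain ⟨w, rfl⟩ := Ideal.Quotient.mk_surjective w
    refine ⟨b * w, mul_right_cancel₀ ht ?_⟩
    rw [hz, ← map_mul]
    have : t * w - 1 ∈ Q := by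
      rw [← Ideal.Quotient.eq_zero_iff_mem, map_sub, map_mul, hw, map_one, sub_self]
    have h1 : ev' (b * w * t - b) = 0 := (hker _).2 (by
      rw [show b * w * t - b = b * (t * w - 1) by ring]
      exact Q.mul_mem_left _ this)
    rwa [map_sub, sub_eq_zero] at h1
  obtain ⟨G, hG⟩ := (hfin Q hQmax).fg_top
  classical
  let φ := Ideal.Quotient.lift Q ev' fun b hb => (hker b).2 hb
  refine ⟨⟨G.image φ, Submodule.eq_top_iff'.2 fun z => ?_⟩⟩
  obtain ⟨b, rfl⟩ := hsurj z
  have hb : Ideal.Quotient.mk Q b ∈ Submodule.span (Γ(X, U) ⧸ Q.comap (algebraMap Γ(X, U)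
      Γ(Curv2.normalization X, Curv2.normalizationι X ⁻¹ᵁ U))) (G : Set _) := by
    rw [hG]; exact Submodule.mem_top
  have hφ : φ (Ideal.Quotient.mk Q b) = ev' b := Ideal.Quotient.lift_mk ..
  rw [← hφ]
  generalize hu0 : Ideal.Quotient.mk Q b = u₀ at hb ⊢
  clear hu0 hφ
  induction hb using Submodule.span_induction with
  | mem g hg => exact Submodule.subset_span (Finset.mem_image_of_mem φ hg)
  | zero => rw [map_zero]; exact Submodule.zero_mem _
  | add u v _ _ hu hv => rw [map_add]; exact Submodule.add_mem _ hu hv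
  | smul c u _ hu =>
    obtain ⟨a, rfl⟩ := Ideal.Quotient.mk_surjective c
    obtain ⟨v, rfl⟩ := Ideal.Quotient.mk_surjective u
    have : φ (Ideal.Quotient.mk (Q.comap (algebraMap Γ(X, U)
        Γ(Curv2.normalization X, Curv2.normalizationι X ⁻¹ᵁ U))) a • Ideal.Quotient.mk Q v) = ev a • φ (Ideal.Quotient.mk Q v) := by
      show φ (Ideal.Quotient.mk Q (algebraMap _ _ a * v)) = r (ev a) * φ (Ideal.Quotient.mk Q v)
      rw [map_mul, map_mul, hnat]
      rfl
    rw [this]
    exact Submodule.smul_mem _ _ hu

/-- The normalisation is locally Noetherian. -/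
theorem isLocallyNoetherian (hdim : topologicalKrullDim X = 1) :
    IsLocallyNoetherian (Curv2.normalization X) := by
  haveI : IsIntegralHom (Curv2.normalizationι X) :=
    inferInstanceAs (IsIntegralHom (X.fromSpecStalk (genericPoint X)).fromNormalization)
  refine isLocallyNoetherian_of_affine_cover
    (S := fun U : X.affineOpens => ⟨Curv2.normalizationι X ⁻¹ᵁ U.1, U.2.preimage _⟩) ?_ fun U => ?_
  · rw [← Scheme.Hom.preimage_iSup, iSup_affineOpens_eq_top]; rfl
  · by_cases hne : (U.1 : Set X).Nonempty
    · haveI := (affine_main X hdim U.2 hne).1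
      infer_instance
    · haveI : Subsingleton Γ(Curv2.normalization X, Curv2.normalizationι X ⁻¹ᵁ U.1) := by
        rw [show Curv2.normalizationι X ⁻¹ᵁ U.1 = ⊥ from TopologicalSpace.Opens.ext
          (Set.eq_empty_of_forall_notMem fun y hy => hne ⟨_, hy⟩)]
        infer_instance
      infer_instance

set_option maxHeartbeats 1000000 in
/-- The nonempty affine opens of the normalisation are spectra of Dedekind domains. -/
theorem isDedekindDomain (hdim : topologicalKrullDim X = 1)
    (W : (Curv2.normalization X).affineOpens) (hW : (W.1 : Set ↥(Curv2.normalization X)).Nonempty) :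
    IsDedekindDomain Γ(Curv2.normalization X, W.1) := by
  haveI : IsLocallyNoetherian (Curv2.normalization X) := isLocallyNoetherian X hdim
  haveI : IsIntegralHom (Curv2.normalizationι X) :=
    inferInstanceAs (IsIntegralHom (X.fromSpecStalk (genericPoint X)).fromNormalization)
  haveI : IsIntegral (Curv2.normalization X) :=
    inferInstanceAs (IsIntegral (X.fromSpecStalk (genericPoint X)).normalization)
  haveI : Nonempty W.1 := hW.to_subtype
  haveI : IsNoetherianRing Γ(Curv2.normalization X, W.1) := IsLocallyNoetherian.component_noetherian W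
  haveI : IsDedekindDomainDvr Γ(Curv2.normalization X, W.1) := by
    refine { is_dvr_at_nonzero_prime := fun P hP hPp => ?_ }
    haveI := hPp
    let w := W.2.fromSpec ⟨P, hPp⟩
    have hw : w ∈ W.1 := W.2.range_fromSpec.subset ⟨_, rfl⟩
    have hprime : (W.2.primeIdealOf ⟨w, hw⟩).asIdeal = P :=
      congrArg PrimeSpectrum.asIdeal (W.2.fromSpec.isOpenEmbedding.injective
        (W.2.fromSpec_primeIdealOf ⟨w, hw⟩))
    let sW := TopCat.Presheaf.algebra_section_stalk (Curv2.normalization X).presheaf ⟨w, hw⟩
    haveI hlocW : IsLocalization.AtPrime ((Curv2.normalization X).presheaf.stalk w) P := by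
      have := W.2.isLocalization_stalk ⟨w, hw⟩
      simp only [hprime] at this
      exact this
    obtain ⟨U, hU, hxU, -⟩ := exists_isAffineOpen_mem_and_subset
      (TopologicalSpace.Opens.mem_top ((Curv2.normalizationι X).base w))
    haveI := (affine_main X hdim hU ⟨_, hxU⟩).1
    have hV : IsAffineOpen (Curv2.normalizationι X ⁻¹ᵁ U) := hU.preimage _
    let sV := TopCat.Presheaf.algebra_section_stalk (Curv2.normalization X).presheaf
      (⟨w, hxU⟩ : ↥(Curv2.normalizationι X ⁻¹ᵁ U))
    let Q := (hV.primeIdealOf ⟨w, hxU⟩).asIdeal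
    haveI hlocV : IsLocalization.AtPrime ((Curv2.normalization X).presheaf.stalk w) Q :=
      hV.isLocalization_stalk ⟨w, hxU⟩
    let e₁ := (IsLocalization.algEquiv Q.primeCompl (Localization.AtPrime Q)
      ((Curv2.normalization X).presheaf.stalk w)).toRingEquiv
    let e₂ := (IsLocalization.algEquiv P.primeCompl ((Curv2.normalization X).presheaf.stalk w)
      (Localization.AtPrime P)).toRingEquiv
    let e := e₁.trans e₂
    by_cases hQ : Q = ⊥
    · exfalso
      obtain ⟨a, ha, ha0⟩ := Submodule.exists_mem_ne_zero_of_ne_bot hP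
      have hnu : ¬ IsUnit (algebraMap _ (Localization.AtPrime P) a) := fun h =>
        (IsLocalization.AtPrime.isUnit_to_map_iff (Localization.AtPrime P) P a).1 h ha
      refine hnu ?_
      have hF : IsField (Localization.AtPrime Q) := by
        refine IsLocalRing.isField_iff_maximalIdeal_eq.2 ?_
        rw [← IsLocalization.AtPrime.map_eq_maximalIdeal Q (Localization.AtPrime Q)]
        exact (congrArg (Ideal.map _) hQ).trans Ideal.map_bot
      have hF' : IsField (Localization.AtPrime P) := e.symm.toMulEquiv.isField hF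
      have hne : algebraMap _ (Localization.AtPrime P) a ≠ 0 := fun h =>
        ha0 (IsLocalization.injective (Localization.AtPrime P)
          P.primeCompl_le_nonZeroDivisors (h.trans (map_zero _).symm))
      obtain ⟨b, hb⟩ := hF'.mul_inv_cancel hne
      exact .of_mul_eq_one b hb
    · haveI : IsDomain Γ(Curv2.normalization X, Curv2.normalizationι X ⁻¹ᵁ U) := inferInstance
      haveI hd : IsDedekindDomainDvr Γ(Curv2.normalization X, Curv2.normalizationι X ⁻¹ᵁ U) := inferInstance
      haveI := hd.is_dvr_at_nonzero_prime Q hQ inferInstance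
      exact IsDiscreteValuationRing.RingEquivClass.isDiscreteValuationRing e
  infer_instance

end Groth.L22.Norm
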