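import Mathlib.SetTheory.Cardinal.Finite
import Mathlib.Data.ENat.Lattice
import Mathlib.Topology.Instances.ENat
import Mathlib.Topology.Algebra.InfiniteSum.Order
import Mathlib.Topology.Algebra.InfiniteSum.Basic

/-!
The cardinality of a sigma type as an infinite sum in `ℕ∞`.
-/

universe u v

namespace Groth.L22.Norm

theorem summable_enat {ι : Type u} (f : ι → ℕ∞) : Summable f :=
  ⟨⨆ s : Finset ι, ∑ i ∈ s, f i, hasSum_of_isLUB_of_nonneg _ (fun _ => zero_le) isLUB_iSup⟩

theorem enat_card_sigma {ι : Type u} (β : ι → Type v) [∀ i, Nonempty (β i)] :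
    ENat.card (Σ i, β i) = ∑' i, ENat.card (β i) := by
  classical
  rcases finite_or_infinite ι with hι | hι
  · haveI := Fintype.ofFinite ι
    rw [tsum_fintype]
    by_cases h : ∀ i, Finite (β i)
    · haveI := h
      haveI := fun i => Fintype.ofFinite (β i)
      rw [ENat.card_eq_coe_fintype_card, Fintype.card_sigma, Nat.cast_sum]
      exact Finset.sum_congr rfl fun i _ => (ENat.card_eq_coe_fintype_card).symm
    · push Not at h
      obtain ⟨i, hi⟩ := h
      haveI : Infinite (Σ i, β i) := Infinite.of_injective (Sigma.mk i) sigma_mk_injective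
      rw [ENat.card_eq_top_of_infinite]
      exact (top_le_iff.1 ((ENat.card_eq_top_of_infinite (α := β i)).ge.trans
        (Finset.single_le_sum (f := fun i => ENat.card (β i)) (fun _ _ => zero_le)
          (Finset.mem_univ i)))).symm
  · haveI : Infinite (Σ i, β i) := Infinite.of_injective
      (fun i => (⟨i, Classical.arbitrary _⟩ : Σ i, β i)) fun i j h => congrArg Sigma.fst h
    rw [ENat.card_eq_top_of_infinite]
    refine ((ENat.eq_top_iff_forall_ge).2 fun n => ?_).symm
    obtain ⟨s, hs⟩ := Infinite.exists_subset_card_eq ι n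
    refine le_trans ?_ ((summable_enat fun i => ENat.card (β i)).sum_le_tsum s fun _ _ => zero_le)
    rw [← hs]
    calc ((s.card : ℕ) : ℕ∞) = ∑ _i ∈ s, (1 : ℕ∞) := by simp
      _ ≤ _ := Finset.sum_le_sum fun i _ => ENat.one_le_card_iff_nonempty _ |>.2 inferInstance

end Groth.L22.Norm
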