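import Groth.Agent.L22.Norm.Affine
import Groth.Agent.L22.Norm.ENatSigma
import Groth.Prelude.Def_Brnch
import Mathlib.RingTheory.Localization.Integral
import Mathlib.FieldTheory.SeparableDegree

/-!
Branches of an integral scheme and the points of its normalisation.
-/

universe u

open AlgebraicGeometry CategoryTheory

namespace Groth.L22.Norm

/-- The composite `O → O_red → O'`. -/
noncomputable abbrev toNormRed (O : Type u) [CommRing O] : O →+* CAlg2.normRed O :=
  (algebraMap (CAlg2.red O) (CAlg2.normRed O)).comp (Ideal.Quotient.mk (nilradical O))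

/-- The normalisation of the local ring at a prime is the localisation of the normalisation. -/
theorem exists_isLocalization_normRed {A B K O : Type u} [CommRing A] [IsDomain A] [Field K]
    [Algebra A K] [IsFractionRing A K] [CommRing B] [Algebra A B] [Algebra B K]
    [IsScalarTower A B K] [IsIntegralClosure B A K] (p : Ideal A) [p.IsPrime]
    [CommRing O] [IsDomain O] [Algebra A O] [IsLocalization.AtPrime O p] :
    ∃ j : B →+* CAlg2.normRed O, j.comp (algebraMap A B) = (toNormRed O).comp (algebraMap A O) ∧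
      letI := j.toAlgebra
      IsLocalization (Algebra.algebraMapSubmonoid B p.primeCompl) (CAlg2.normRed O) := by
  have hnil : nilradical O = ⊥ := nilradical_eq_zero O
  haveI : (nilradical O).IsPrime := hnil ▸ Ideal.isPrime_bot
  have hbij : Function.Bijective (IsScalarTower.toAlgHom A O (CAlg2.red O)) := by
    refine ⟨?_, Ideal.Quotient.mk_surjective⟩
    exact RingHom.injective_iff_ker_eq_bot (Ideal.Quotient.mk (nilradical O)) |>.2
      (Ideal.mk_ker.trans hnil)
  haveI : IsLocalization p.primeCompl (CAlg2.red O) :=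
    IsLocalization.isLocalization_of_algEquiv p.primeCompl
      (AlgEquiv.ofBijective (IsScalarTower.toAlgHom A O (CAlg2.red O)) hbij)
  haveI : IsDomain (CAlg2.red O) := Ideal.Quotient.isDomain _
  have hAR : Function.Injective (algebraMap A (CAlg2.red O)) :=
    IsLocalization.injective _ p.primeCompl_le_nonZeroDivisors
  haveI : FaithfulSMul A (FractionRing (CAlg2.red O)) :=
    (faithfulSMul_iff_algebraMap_injective _ _).2 (by
      rw [IsScalarTower.algebraMap_eq A (CAlg2.red O) (FractionRing (CAlg2.red O))]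
      exact (IsFractionRing.injective (CAlg2.red O) _).comp hAR)
  haveI : IsFractionRing A (FractionRing (CAlg2.red O)) := IsFractionRing.of_field _ _ fun z => by
    obtain ⟨r, s, hs, rfl⟩ := IsFractionRing.div_surjective (A := CAlg2.red O) z
    obtain ⟨⟨a, m⟩, hr⟩ := IsLocalization.surj p.primeCompl r
    obtain ⟨⟨b, n⟩, hb⟩ := IsLocalization.surj p.primeCompl s
    have hne : ∀ q : p.primeCompl, algebraMap (CAlg2.red O) (FractionRing (CAlg2.red O))
        (algebraMap A (CAlg2.red O) q) ≠ 0 := fun q =>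
      ((IsLocalization.map_units (CAlg2.red O) q).map _).ne_zero
    refine ⟨a * n, b * m, ?_⟩
    simp only [map_mul, IsScalarTower.algebraMap_apply A (CAlg2.red O) (FractionRing (CAlg2.red O))]
    rw [← hr, ← hb, map_mul, map_mul]
    have hs0 := IsFractionRing.to_map_ne_zero_of_mem_nonZeroDivisors
      (K := FractionRing (CAlg2.red O)) hs
    have hm := hne m
    have hn := hne n
    field_simp
  let e : K ≃ₐ[A] FractionRing (CAlg2.red O) := IsLocalization.algEquiv (nonZeroDivisors A) _ _
  let g : B →ₐ[A] FractionRing (CAlg2.red O) := e.toAlgHom.comp (IsScalarTower.toAlgHom A B K)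
  have hgint : ∀ b, g b ∈ integralClosure (CAlg2.red O) (FractionRing (CAlg2.red O)) := fun b =>
    (((IsIntegralClosure.isIntegral A K b).map g).tower_top : IsIntegral (CAlg2.red O) (g b))
  let j : B →+* CAlg2.normRed O := g.toRingHom.codRestrict
    (integralClosure (CAlg2.red O) (FractionRing (CAlg2.red O))).toSubring hgint
  refine ⟨j, RingHom.ext fun a => Subtype.ext ?_, ?_⟩
  · show g (algebraMap A B a) = algebraMap (CAlg2.red O) (FractionRing (CAlg2.red O))
      (Ideal.Quotient.mk _ (algebraMap A O a))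
    rw [g.commutes, IsScalarTower.algebraMap_apply A (CAlg2.red O) (FractionRing (CAlg2.red O))]
    rfl
  letI := j.toAlgebra
  have hjinj : Function.Injective j := fun b b' h =>
    IsIntegralClosure.algebraMap_injective B A K (e.injective (congrArg Subtype.val h))
  refine ⟨?_, ?_, fun {b b'} h => ⟨1, by rw [show b = b' from hjinj h]⟩⟩
  · rintro ⟨_, a, ha, rfl⟩
    have : j (algebraMap A B a) =
        algebraMap (CAlg2.red O) (CAlg2.normRed O) (algebraMap A (CAlg2.red O) a) :=
      Subtype.ext (by
        show g (algebraMap A B a) = _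
        rw [g.commutes, IsScalarTower.algebraMap_apply A (CAlg2.red O) (FractionRing (CAlg2.red O))]
        rfl)
    show IsUnit (j (algebraMap A B a))
    rw [this]
    exact (IsLocalization.map_units (CAlg2.red O) (⟨a, ha⟩ : p.primeCompl)).map _
  · rintro ⟨z, hz⟩
    obtain ⟨⟨m, hm⟩, hmz⟩ := IsIntegral.exists_multiple_integral_of_isLocalization p.primeCompl z hz
    obtain ⟨w, hw⟩ : ∃ w, e w = (⟨m, hm⟩ : p.primeCompl) • z := e.surjective _
    have hwint : IsIntegral A w := by
      have := hmz.map e.symm.toAlgHom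
      rw [← hw] at this
      simpa using this
    obtain ⟨b, hb⟩ := (IsIntegralClosure.isIntegral_iff (A := B)).1 hwint
    refine ⟨⟨b, ⟨algebraMap A B m, m, hm, rfl⟩⟩, Subtype.ext ?_⟩
    show z * g (algebraMap A B m) = g b
    show z * g (algebraMap A B m) = e (algebraMap B K b)
    rw [hb, hw, g.commutes, mul_comm]
    exact (Algebra.smul_def m z).symm

variable (X : Scheme.{u}) [IsIntegral X]
  [QuasiCompact (X.fromSpecStalk (genericPoint X))]
  [QuasiSeparated (X.fromSpecStalk (genericPoint X))]

/-- The maximal ideals of the normalised local ring at `x`, with their residue fields, are the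
points of the normalisation over `x`. -/
theorem exists_surjective_normRed (x : X) :
    ∃ ψ : ∀ x' : {x' : ↥(Curv2.normalization X) // (Curv2.normalizationι X).base x' = x},
        CAlg2.normRed (X.presheaf.stalk x) →+* (Curv2.normalization X).residueField x'.1,
      (∀ x', Function.Surjective (ψ x')) ∧
      (∀ x' : {x' : ↥(Curv2.normalization X) // (Curv2.normalizationι X).base x' = x},
        (ψ x').comp (toNormRed (X.presheaf.stalk x)) =
          (((Curv2.normalizationι X).residueFieldMap x'.1).hom.comp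
            ((X.residueFieldCongr x'.2.symm).hom.hom.comp (X.residue x).hom))) ∧
      Function.Injective (fun x' => RingHom.ker (ψ x')) ∧
      ∀ m : MaximalSpectrum (CAlg2.normRed (X.presheaf.stalk x)),
        ∃ x', RingHom.ker (ψ x') = m.asIdeal := by
  obtain ⟨U, hU, hxU, -⟩ := exists_isAffineOpen_mem_and_subset (TopologicalSpace.Opens.mem_top x)
  have hne : (U : Set X).Nonempty := ⟨x, hxU⟩
  haveI : Nonempty U := hne.to_subtype
  letI algAB : Algebra Γ(X, U) Γ(Curv2.normalization X, Curv2.normalizationι X ⁻¹ᵁ U) :=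
    ((Curv2.normalizationι X).app U).hom.toAlgebra
  obtain ⟨κ, hT, hIC⟩ := exists_isIntegralClosure X hU hne
  letI := κ.toAlgebra
  haveI := hT; haveI := hIC
  haveI : IsFractionRing Γ(X, U) X.functionField :=
    functionField_isFractionRing_of_isAffineOpen X U hU
  haveI : IsIntegralHom (Curv2.normalizationι X) :=
    inferInstanceAs (IsIntegralHom (X.fromSpecStalk (genericPoint X)).fromNormalization)
  have hV : IsAffineOpen (Curv2.normalizationι X ⁻¹ᵁ U) := hU.preimage _
  haveI : Algebra.IsIntegral Γ(X, U) Γ(Curv2.normalization X, Curv2.normalizationι X ⁻¹ᵁ U) :=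
    ⟨(Curv2.normalizationι X).isIntegral_app U hU⟩
  let p := (hU.primeIdealOf ⟨x, hxU⟩).asIdeal
  letI algAO : Algebra Γ(X, U) (X.presheaf.stalk x) :=
    TopCat.Presheaf.algebra_section_stalk X.presheaf ⟨x, hxU⟩
  haveI hlocO : IsLocalization.AtPrime (X.presheaf.stalk x) p := hU.isLocalization_stalk ⟨x, hxU⟩
  obtain ⟨j, hj, hloc⟩ := exists_isLocalization_normRed (K := X.functionField)
    (B := Γ(Curv2.normalization X, Curv2.normalizationι X ⁻¹ᵁ U)) (O := X.presheaf.stalk x) p
  letI algBN := j.toAlgebra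
  haveI := hloc
  have hx'V : ∀ x' : {x' : ↥(Curv2.normalization X) // (Curv2.normalizationι X).base x' = x},
      x'.1 ∈ Curv2.normalizationι X ⁻¹ᵁ U := fun x' => by
    show (Curv2.normalizationι X).base x'.1 ∈ U
    rw [x'.2]; exact hxU
  let ev' := fun x' => ((Curv2.normalization X).evaluation _ x'.1 (hx'V x')).hom
  let r := fun (x' : {x' : ↥(Curv2.normalization X) // (Curv2.normalizationι X).base x' = x}) =>
    ((Curv2.normalizationι X).residueFieldMap x'.1).hom.comp
      ((X.residueFieldCongr x'.2.symm).hom.hom.comp (X.residue x).hom)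
  have hnat : ∀ x' (a : Γ(X, U)), r x' (algebraMap Γ(X, U) (X.presheaf.stalk x) a) =
      ev' x' (algebraMap Γ(X, U) _ a) := by
    rintro ⟨x', rfl⟩ a
    exact Scheme.evaluation_naturality_apply (Curv2.normalizationι X) x' hxU a
  have hker : ∀ x' b, ev' x' b = 0 ↔ b ∈ (hV.primeIdealOf ⟨x'.1, hx'V x'⟩).asIdeal := by
    intro x' b
    refine ((Curv2.normalization X).evaluation_eq_zero_iff_notMem_basicOpen x'.1 (hx'V x') b).trans ?_
    have hp : hV.fromSpec (hV.primeIdealOf ⟨x'.1, hx'V x'⟩) = x'.1 :=
      hV.fromSpec_primeIdealOf ⟨x'.1, hx'V x'⟩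
    have : x'.1 ∈ (Curv2.normalization X).basicOpen b ↔
        hV.primeIdealOf ⟨x'.1, hx'V x'⟩ ∈ hV.fromSpec ⁻¹ᵁ (Curv2.normalization X).basicOpen b :=
      Iff.of_eq (congrArg (· ∈ (Curv2.normalization X).basicOpen b) hp.symm)
    rw [this, hV.fromSpec_preimage_basicOpen]
    exact not_not
  have hcomap : ∀ (Q : PrimeSpectrum Γ(Curv2.normalization X, Curv2.normalizationι X ⁻¹ᵁ U)),
      Q.asIdeal.comap (algebraMap Γ(X, U) _) = p → (Curv2.normalizationι X).base (hV.fromSpec Q) = x := by
    intro Q hQ
    have := congrArg (fun φ => φ Q)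
      (IsAffineOpen.SpecMap_appLE_fromSpec (Curv2.normalizationι X) hU hV le_rfl)
    refine (this : _).symm.trans ?_
    show hU.fromSpec (PrimeSpectrum.comap ((Curv2.normalizationι X).appLE U _ le_rfl).hom Q) = x
    refine Eq.trans (congrArg hU.fromSpec (PrimeSpectrum.ext ?_)) (hU.fromSpec_primeIdealOf ⟨x, hxU⟩)
    rw [← Scheme.Hom.app_eq_appLE]
    exact hQ
  have hunit : ∀ x' (y : Algebra.algebraMapSubmonoid
      Γ(Curv2.normalization X, Curv2.normalizationι X ⁻¹ᵁ U) p.primeCompl), IsUnit (ev' x' y) := by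
    rintro x' ⟨_, a, ha, rfl⟩
    show IsUnit (ev' x' (algebraMap _ _ a))
    rw [← hnat]
    exact (IsLocalization.map_units (X.presheaf.stalk x) (⟨a, ha⟩ : p.primeCompl)).map _
  let ψ := fun x' => IsLocalization.lift (S := CAlg2.normRed (X.presheaf.stalk x))
    (M := Algebra.algebraMapSubmonoid Γ(Curv2.normalization X, Curv2.normalizationι X ⁻¹ᵁ U)
      p.primeCompl) (hunit x')
  have hψj : ∀ x' b, ψ x' (j b) = ev' x' b := fun x' b => IsLocalization.lift_eq (hunit x') b
  have hψO : ∀ x', (ψ x').comp (toNormRed (X.presheaf.stalk x)) = r x' := fun x' => by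
    refine IsLocalization.ringHom_ext p.primeCompl (RingHom.ext fun a => ?_)
    show ψ x' ((toNormRed _) (algebraMap _ _ a)) = r x' (algebraMap _ _ a)
    rw [hnat, ← hψj, ← RingHom.comp_apply j, hj]
    rfl
  have hsurj : ∀ x', Function.Surjective (ψ x') := by
    intro x' z
    obtain ⟨w, rfl⟩ := (Curv2.normalization X).residue_surjective x'.1 z
    letI := TopCat.Presheaf.algebra_section_stalk (Curv2.normalization X).presheaf ⟨x'.1, hx'V x'⟩
    haveI := hV.isLocalization_stalk ⟨x'.1, hx'V x'⟩
    obtain ⟨b, t, rfl⟩ := IsLocalization.exists_mk'_eq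
      (hV.primeIdealOf ⟨x'.1, hx'V x'⟩).asIdeal.primeCompl w
    have ht : ev' x' t ≠ 0 := fun h => t.2 ((hker x' _).1 h)
    have hz : (Curv2.normalization X).residue x'.1 (IsLocalization.mk' _ b t) * ev' x' t = ev' x' b := by
      show (Curv2.normalization X).residue x'.1 _ * (Curv2.normalization X).residue x'.1
        (algebraMap _ _ _) = (Curv2.normalization X).residue x'.1 (algebraMap _ _ _)
      rw [← map_mul, IsLocalization.mk'_spec]
    letI algO : Algebra (X.presheaf.stalk x) (CAlg2.normRed (X.presheaf.stalk x)) :=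
      (toNormRed _).toAlgebra
    letI algr : Algebra (X.presheaf.stalk x) ((Curv2.normalization X).residueField x'.1) :=
      (r x').toAlgebra
    haveI : Algebra.IsIntegral (X.presheaf.stalk x) (CAlg2.normRed (X.presheaf.stalk x)) :=
      ⟨RingHom.IsIntegral.trans _ _ (RingHom.isIntegral_of_surjective _ Ideal.Quotient.mk_surjective)
        (algebraMap_isIntegral_iff.2 inferInstance)⟩
    have hkmax : (RingHom.ker (ψ x')).IsMaximal := by
      haveI : (RingHom.ker (ψ x')).IsPrime := RingHom.ker_isPrime _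
      refine Ideal.isMaximal_of_isIntegral_of_isMaximal_comap (R := X.presheaf.stalk x)
        (RingHom.ker (ψ x')) ?_
      have : (RingHom.ker (ψ x')).comap (algebraMap _ (CAlg2.normRed (X.presheaf.stalk x))) =
          IsLocalRing.maximalIdeal (X.presheaf.stalk x) := by
        ext a
        show ψ x' (toNormRed _ a) = 0 ↔ _
        rw [← RingHom.comp_apply, hψO]
        show ((Curv2.normalizationι X).residueFieldMap x'.1).hom
          ((X.residueFieldCongr x'.2.symm).hom.hom (X.residue x a)) = 0 ↔ _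
        rw [map_eq_zero, map_eq_zero]
        exact IsLocalRing.residue_eq_zero_iff a
      rw [this]
      exact IsLocalRing.maximalIdeal.isMaximal _
    obtain ⟨v, hv⟩ := (Ideal.Quotient.maximal_ideal_iff_isField_quotient _).1 hkmax |>.mul_inv_cancel
      (show Ideal.Quotient.mk (RingHom.ker (ψ x')) (j t) ≠ 0 from fun h =>
        ht (by rw [← hψj]; exact RingHom.mem_ker.1 (Ideal.Quotient.eq_zero_iff_mem.1 h)))
    obtain ⟨v, rfl⟩ := Ideal.Quotient.mk_surjective v
    have hv' : ψ x' (j t) * ψ x' v = 1 := by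
      rw [← map_mul, ← map_one (ψ x')]
      exact sub_eq_zero.1 (by rw [← map_sub]; exact RingHom.mem_ker.1 (Ideal.Quotient.eq.1 (by rw [map_mul, hv, map_one])))
    refine ⟨j b * v, mul_right_cancel₀ ht ?_⟩
    rw [hz, map_mul, hψj, mul_assoc, ← hψj x' t, mul_comm (ψ x' v), hv', mul_one]
  refine ⟨ψ, hsurj, hψO, fun x₁ x₂ h => ?_, fun m => ?_⟩
  · refine Subtype.ext ?_
    have h' : (hV.primeIdealOf ⟨x₁.1, hx'V x₁⟩) = (hV.primeIdealOf ⟨x₂.1, hx'V x₂⟩) :=
      PrimeSpectrum.ext (Ideal.ext fun b => by
        rw [← hker, ← hker, ← hψj, ← hψj]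
        exact SetLike.ext_iff.1 h (j b))
    have := congrArg hV.fromSpec h'
    rwa [hV.fromSpec_primeIdealOf, hV.fromSpec_primeIdealOf] at this
  · haveI := m.isMaximal
    let Q : PrimeSpectrum Γ(Curv2.normalization X, Curv2.normalizationι X ⁻¹ᵁ U) :=
      ⟨m.asIdeal.comap j, inferInstance⟩
    letI algO : Algebra (X.presheaf.stalk x) (CAlg2.normRed (X.presheaf.stalk x)) :=
      (toNormRed _).toAlgebra
    haveI : Algebra.IsIntegral (X.presheaf.stalk x) (CAlg2.normRed (X.presheaf.stalk x)) :=
      ⟨RingHom.IsIntegral.trans _ _ (RingHom.isIntegral_of_surjective _ Ideal.Quotient.mk_surjective)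
        (algebraMap_isIntegral_iff.2 inferInstance)⟩
    have hQ : Q.asIdeal.comap (algebraMap Γ(X, U) _) = p := by
      show (m.asIdeal.comap j).comap _ = p
      rw [Ideal.comap_comap, hj, ← Ideal.comap_comap]
      haveI : (m.asIdeal.comap (toNormRed (X.presheaf.stalk x))).IsMaximal :=
        Ideal.isMaximal_comap_of_isIntegral_of_isMaximal (R := X.presheaf.stalk x) m.asIdeal
      rw [IsLocalRing.eq_maximalIdeal this]
      exact IsLocalization.AtPrime.under_maximalIdeal (X.presheaf.stalk x) p
    refine ⟨⟨hV.fromSpec Q, hcomap Q hQ⟩, ?_⟩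
    have hQ' : hV.primeIdealOf ⟨hV.fromSpec Q, hx'V ⟨_, hcomap Q hQ⟩⟩ = Q :=
      hV.fromSpec.isOpenEmbedding.injective (hV.fromSpec_primeIdealOf _)
    rw [← IsLocalization.map_comap (Algebra.algebraMapSubmonoid
        Γ(Curv2.normalization X, Curv2.normalizationι X ⁻¹ᵁ U) p.primeCompl)
        (CAlg2.normRed (X.presheaf.stalk x)) m.asIdeal,
      ← IsLocalization.map_comap (Algebra.algebraMapSubmonoid
        Γ(Curv2.normalization X, Curv2.normalizationι X ⁻¹ᵁ U) p.primeCompl)
        (CAlg2.normRed (X.presheaf.stalk x)) (RingHom.ker (ψ ⟨hV.fromSpec Q, hcomap Q hQ⟩))]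
    congr 1
    ext b
    show ψ _ (j b) = 0 ↔ j b ∈ m.asIdeal
    rw [hψj, hker, hQ']
    rfl

end Groth.L22.Norm
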