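import Groth.Agent.L22.Norm.Branch

/-!
Counting branches of an integral scheme.
-/

universe u

open AlgebraicGeometry CategoryTheory

namespace Groth.L22.Norm

variable (X : Scheme.{u}) [IsIntegral X]
  [QuasiCompact (X.fromSpecStalk (genericPoint X))]
  [QuasiSeparated (X.fromSpecStalk (genericPoint X))]

theorem minimalPrimes_finite (x : X) : (minimalPrimes (X.presheaf.stalk x)).Finite := by
  rw [IsDomain.minimalPrimes_eq_singleton_bot]
  exact Set.finite_singleton _

set_option maxHeartbeats 1000000 in
theorem numBranches_eq (x : X) :
    Brnch.numBranchesAt X x =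
        ENat.card {x' : ↥(Curv2.normalization X) // (Curv2.normalizationι X).base x' = x} ∧
      Brnch.numGeomBranchesAt X x =
        ∑' x' : {x' : ↥(Curv2.normalization X) // (Curv2.normalizationι X).base x' = x},
          (letI := ((Curv2.normalizationι X).residueFieldMap x'.1).hom.toAlgebra
           ENat.card (Field.Emb (X.residueField ((Curv2.normalizationι X).base x'.1))
             ((Curv2.normalization X).residueField x'.1))) := by
  classical
  obtain ⟨ψ, hsurj, hψ, hinj, hex⟩ := exists_surjective_normRed X x
  let e : {x' : ↥(Curv2.normalization X) // (Curv2.normalizationι X).base x' = x} ≃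
      MaximalSpectrum (CAlg2.normRed (X.presheaf.stalk x)) :=
    Equiv.ofBijective (fun x' => ⟨RingHom.ker (ψ x'), RingHom.ker_isMaximal_of_surjective _ (hsurj x')⟩)
      ⟨fun a b h => hinj (congrArg MaximalSpectrum.asIdeal h), fun m =>
        (hex m).imp fun x' h => MaximalSpectrum.ext h⟩
  have key : ∀ x' : {x' : ↥(Curv2.normalization X) // (Curv2.normalizationι X).base x' = x},
      letI := ((Curv2.normalizationι X).residueFieldMap x'.1).hom.toAlgebra
      Nonempty (Brnch.Emb (X.presheaf.stalk x) (e x') ≃
        Field.Emb (X.residueField ((Curv2.normalizationι X).base x'.1))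
          ((Curv2.normalization X).residueField x'.1)) := by
    rintro ⟨x', rfl⟩
    letI := ((Curv2.normalizationι X).residueFieldMap x').hom.toAlgebra
    letI algΩ : Algebra (X.residueField ((Curv2.normalizationι X).base x'))
        (AlgebraicClosure (IsLocalRing.ResidueField
          (X.presheaf.stalk ((Curv2.normalizationι X).base x')))) :=
      RingHom.toAlgebra (R := X.residueField ((Curv2.normalizationι X).base x'))
        (algebraMap (IsLocalRing.ResidueField (X.presheaf.stalk ((Curv2.normalizationι X).base x')))
          (AlgebraicClosure (IsLocalRing.ResidueField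
            (X.presheaf.stalk ((Curv2.normalizationι X).base x')))))
    haveI : Algebra.IsAlgebraic (X.residueField ((Curv2.normalizationι X).base x'))
        ((Curv2.normalization X).residueField x') := by
      refine ⟨fun z => IsIntegral.isAlgebraic ?_⟩
      obtain ⟨n, rfl⟩ := hsurj ⟨x', rfl⟩ z
      obtain ⟨P, hP, h0⟩ := (RingHom.IsIntegral.trans _ _
        (RingHom.isIntegral_of_surjective (Ideal.Quotient.mk
          (nilradical (X.presheaf.stalk ((Curv2.normalizationι X).base x')))) Ideal.Quotient.mk_surjective)
        (algebraMap_isIntegral_iff.2 inferInstance) : (toNormRed _).IsIntegral) n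
      refine ⟨P.map (X.residue _).hom, hP.map _, ?_⟩
      rw [Polynomial.eval₂_map]
      have := congrArg (ψ ⟨x', rfl⟩) h0
      rw [map_zero, Polynomial.hom_eval₂, hψ] at this
      exact this
    have hψ' : ∀ a, ψ ⟨x', rfl⟩ (toNormRed _ a) =
        algebraMap (X.residueField ((Curv2.normalizationι X).base x')) _ (X.residue _ a) :=
      fun a => congrArg (fun φ => φ a) (hψ ⟨x', rfl⟩)
    let q : CAlg2.normRed (X.presheaf.stalk ((Curv2.normalizationι X).base x')) ⧸
        RingHom.ker (ψ ⟨x', rfl⟩) ≃+* (Curv2.normalization X).residueField x' :=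
      RingHom.quotientKerEquivOfSurjective (hsurj ⟨x', rfl⟩)
    refine ⟨Equiv.trans
      { toFun := fun σ =>
          { σ.1.comp q.symm.toRingHom with
            commutes' := fun c => by
              obtain ⟨a, rfl⟩ := X.residue_surjective _ c
              show σ.1 (q.symm _) = _
              rw [← hψ', show ψ ⟨x', rfl⟩ (toNormRed _ a) = q (Ideal.Quotient.mk _ (toNormRed _ a))
                from rfl, RingEquiv.symm_apply_apply]
              exact congrArg (fun φ => φ a) σ.2 }
        invFun := fun τ => ⟨τ.toRingHom.comp q.toRingHom, RingHom.ext fun a => by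
          show τ (q (Ideal.Quotient.mk _ (toNormRed _ a))) = _
          rw [show q (Ideal.Quotient.mk _ (toNormRed _ a)) = ψ ⟨x', rfl⟩ (toNormRed _ a) from rfl,
            hψ', τ.commutes]
          rfl⟩
        left_inv := fun σ => Subtype.ext (RingHom.ext fun a => congrArg σ.1 (q.symm_apply_apply a))
        right_inv := fun τ => AlgHom.ext fun a => congrArg τ (q.apply_symm_apply a) }
      (Field.embEquivOfIsAlgClosed (X.residueField ((Curv2.normalizationι X).base x'))
        ((Curv2.normalization X).residueField x')
        (AlgebraicClosure (IsLocalRing.ResidueField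
          (X.presheaf.stalk ((Curv2.normalizationι X).base x'))))).symm⟩
  refine ⟨?_, ?_⟩
  · rw [Brnch.numBranchesAt, Brnch.numBranches, if_pos (minimalPrimes_finite X x)]
    exact (ENat.card_congr e).symm
  · rw [Brnch.numGeomBranchesAt, Brnch.numGeomBranches, if_pos (minimalPrimes_finite X x)]
    refine (ENat.card_congr ((Equiv.sigmaCongrLeft e).symm.trans
      (Equiv.sigmaCongrRight fun x' => (key x').some))).trans ?_
    exact enat_card_sigma _

end Groth.L22.Norm
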