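import Groth.Agent.L22.Norm.DeltaFieldExt
import Groth.Agent.L22.Norm.Branch
import Groth.Agent.L22.SchemeDim
import Groth.Agent.L22.FibreDim
import Groth.Agent.L01.NagataAdjoin
import Groth.Agent.L01.NagataFiniteType
import Groth.Agent.L18.NormalizationField
import Mathlib.AlgebraicGeometry.Pullbacks

/-!
The δ-invariant of an integral scheme after extension of the ground field.
-/

set_option autoImplicit false
set_option linter.style.haveILetI false
set_option backward.isDefEq.respectTransparency.types false
set_option maxSynthPendingDepth 3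

universe u

open CategoryTheory CategoryTheory.Limits AlgebraicGeometry TensorProduct

namespace Groth.L22.Norm.FlatInvariance

/-- For a domain the normalisation is the integral closure in the fraction field. -/
theorem exists_normRed_ringEquiv (A : Type u) [CommRing A] [IsDomain A] :
    ∃ e : integralClosure A (FractionRing A) ≃+* CAlg2.normRed A,
      e.toRingHom.comp (algebraMap A (integralClosure A (FractionRing A))) = Groth.L22.Norm.toNormRed A := by
  have hbij : Function.Bijective (IsScalarTower.toAlgHom A A (CAlg2.red A)) := by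
    refine ⟨?_, Ideal.Quotient.mk_surjective⟩
    exact RingHom.injective_iff_ker_eq_bot (Ideal.Quotient.mk (nilradical A)) |>.2
      (Ideal.mk_ker.trans (nilradical_eq_zero A))
  let r : A ≃+* CAlg2.red A := RingEquiv.ofBijective (Ideal.Quotient.mk (nilradical A)) hbij
  haveI : IsFractionRing A (FractionRing (CAlg2.red A)) := by
    have h1 := IsLocalization.isLocalization_of_base_ringEquiv (nonZeroDivisors (CAlg2.red A))
      (FractionRing (CAlg2.red A)) r.symm
    have h2 : (nonZeroDivisors (CAlg2.red A)).map (r.symm : CAlg2.red A →* A) = nonZeroDivisors A :=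
      MulEquivClass.map_nonZeroDivisors r.symm
    convert! h2 ▸ h1 using 1
    exact Algebra.algebra_ext _ _ fun a => rfl
  let g : FractionRing A ≃ₐ[A] FractionRing (CAlg2.red A) :=
    IsLocalization.algEquiv (nonZeroDivisors A) _ _
  haveI : Algebra.IsIntegral A (CAlg2.red A) :=
    ⟨RingHom.isIntegral_of_surjective _ Ideal.Quotient.mk_surjective⟩
  let e : integralClosure A (FractionRing A) ≃+* CAlg2.normRed A :=
    { toFun := fun z => ⟨g z, (z.2.map g.toAlgHom).tower_top⟩
      map_add' := fun x y => Subtype.ext (map_add g _ _)
      map_mul' := fun x y => Subtype.ext (map_mul g _ _)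
      invFun := fun z => ⟨g.symm z, (isIntegral_trans (R := A) z.1 z.2).map g.symm.toAlgHom⟩
      left_inv := fun z => Subtype.ext (g.symm_apply_apply z.1)
      right_inv := fun z => Subtype.ext (g.apply_symm_apply z.1) }
  exact ⟨e, RingHom.ext fun a => Subtype.ext (g.commutes a)⟩

/-- A geometrically reduced field extension stays reduced after any extension of the ground field. -/
theorem isReduced_tensor_of_geometricallyReduced {k : Type u} [Field k] (F : Type u) [Field F] [Algebra k F]
    (h : GeometricallyReduced (Spec.map (CommRingCat.ofHom (algebraMap k F)))) (K : Type u) [Field K] [Algebra k K] :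
    _root_.IsReduced (F ⊗[k] K) := by
  haveI := h.geometrically_isReduced (Spec.map (CommRingCat.ofHom (algebraMap k K))) _ _ (IsPullback.of_hasPullback _ _)
  haveI : AlgebraicGeometry.IsReduced (Spec (CommRingCat.of (F ⊗[k] K))) :=
    isReduced_of_isOpenImmersion (pullbackSpecIso k F K).inv
  exact (affine_isReduced_iff (CommRingCat.of (F ⊗[k] K))).1 inferInstance

/-- A field embedded in a geometrically reduced one stays reduced after extension of the ground field. -/
theorem isReduced_tensor_of_injective {k : Type u} [Field k] {E : Type u} [CommRing E] [Algebra k E]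
    (F : Type u) [Field F] [Algebra k F] (i : E →ₐ[k] F) (hi : Function.Injective i) (K : Type u) [Field K]
    [Algebra k K] (h : _root_.IsReduced (F ⊗[k] K)) : _root_.IsReduced (E ⊗[k] K) :=
  isReduced_of_injective (Algebra.TensorProduct.map i (AlgHom.id k K))
    (Module.Flat.rTensor_preserves_injective_linearMap i.toLinearMap hi)

variable (k : Type u) [Field k] (X : Scheme.{u}) [X.Over (Spec (CommRingCat.of k))]
    [IsIntegral X] [LocallyOfFiniteType (X ↘ (Spec (CommRingCat.of k)))]
    [QuasiCompact (X.fromSpecStalk (genericPoint X))] [QuasiSeparated (X.fromSpecStalk (genericPoint X))]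

include k in
theorem isNagata_stalk (x : X) : CAlg.IsNagata (X.presheaf.stalk x) := by
  obtain ⟨U, hU, hxU, -⟩ := exists_isAffineOpen_mem_and_subset (TopologicalSpace.Opens.mem_top x)
  letI : Algebra k Γ(X, U) := (Groth.L22.SchemeDim.sectHom k X U).toAlgebra
  haveI : Algebra.FiniteType k Γ(X, U) :=
    RingHom.finiteType_algebraMap.1 (Groth.L22.SchemeDim.finiteType_sectHom k X hU)
  have hN : CAlg.IsNagata Γ(X, U) :=
    Groth.L01.Nagata.isNagata_of_finiteType (R := k) (S := Γ(X, U)) (Groth.L18.NormField.isNagata_field k)
  letI := TopCat.Presheaf.algebra_section_stalk X.presheaf (⟨x, hxU⟩ : U)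
  haveI := hU.isLocalization_stalk ⟨x, hxU⟩
  exact Groth.L01.NagataAdjoin.isNagata_localization hN (hU.primeIdealOf ⟨x, hxU⟩).asIdeal.primeCompl _

attribute [local instance] Curv2.stalkAlgebra

/-- The residue fields of the normalised local ring inherit geometric reducedness. -/
theorem isReduced_residue_tensor (x : X) (K : Type u) [Field K] [Algebra k K]
    (hsep : letI : (Curv2.normalization X).Over (Spec (CommRingCat.of k)) :=
        ⟨Curv2.normalizationι X ≫ (X ↘ (Spec (CommRingCat.of k)))⟩
      ∀ x' : ↥(Curv2.normalization X), (Curv2.normalizationι X).base x' = x →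
        GeometricallyReduced (Spec.map (CommRingCat.ofHom (Curv2.resMap k (Curv2.normalization X) x'))))
    (n : Ideal (integralClosure (X.presheaf.stalk x) (FractionRing (X.presheaf.stalk x)))) [n.IsMaximal] :
    _root_.IsReduced ((integralClosure (X.presheaf.stalk x) (FractionRing (X.presheaf.stalk x)) ⧸ n) ⊗[k] K) := by
  letI : (Curv2.normalization X).Over (Spec (CommRingCat.of k)) :=
    ⟨Curv2.normalizationι X ≫ (X ↘ (Spec (CommRingCat.of k)))⟩
  obtain ⟨e, he⟩ := exists_normRed_ringEquiv (X.presheaf.stalk x)
  obtain ⟨ψ, -, hψ, -, hψm⟩ := Groth.L22.Norm.exists_surjective_normRed X x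
  haveI hmax : (n.map e.toRingHom).IsMaximal := Ideal.map_isMaximal_of_equiv e
  obtain ⟨x', hx'⟩ := hψm ⟨n.map e.toRingHom, hmax⟩
  have hkey : ∀ z ∈ n, ψ x' (e z) = 0 := fun z hz => RingHom.mem_ker.1 (hx'.ge (Ideal.mem_map_of_mem e.toRingHom hz))
  have hres : CommRingCat.ofHom (Curv2.resMap k X ((Curv2.normalizationι X) x'.1)) ≫
      (Curv2.normalizationι X).residueFieldMap x'.1 =
      CommRingCat.ofHom (Curv2.resMap k (Curv2.normalization X) x'.1) := by
    apply Spec.map_injective
    rw [Spec.map_comp, Groth.L22.FibreDim.SpecMap_resMap, Groth.L22.FibreDim.SpecMap_resMap,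
      Scheme.Hom.SpecMap_residueFieldMap_fromSpecResidueField_assoc]
    rfl
  letI : Algebra k ((Curv2.normalization X).residueField x'.1) :=
    (Curv2.resMap k (Curv2.normalization X) x'.1).toAlgebra
  let F := integralClosure (X.presheaf.stalk x) (FractionRing (X.presheaf.stalk x)) ⧸ n
  let i₀ : F →+* (Curv2.normalization X).residueField x'.1 :=
    Ideal.Quotient.lift n ((ψ x').comp e.toRingHom) hkey
  let i : F →ₐ[k] (Curv2.normalization X).residueField x'.1 :=
    { i₀ with
      commutes' := fun c => by
        show ψ x' (e (algebraMap k (integralClosure (X.presheaf.stalk x) (FractionRing (X.presheaf.stalk x))) c)) =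
          Curv2.resMap k (Curv2.normalization X) x'.1 c
        rw [IsScalarTower.algebraMap_apply k (X.presheaf.stalk x)
          (integralClosure (X.presheaf.stalk x) (FractionRing (X.presheaf.stalk x))) c]
        have h1 := RingHom.congr_fun he (algebraMap k (X.presheaf.stalk x) c)
        rw [show e (algebraMap (X.presheaf.stalk x) _ (algebraMap k (X.presheaf.stalk x) c)) =
          Groth.L22.Norm.toNormRed (X.presheaf.stalk x) (algebraMap k (X.presheaf.stalk x) c) from h1,
          ← RingHom.comp_apply (ψ x'), hψ x']
        obtain ⟨x', rfl⟩ := x'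
        exact congrArg (fun r => r.hom c) hres }
  letI := Ideal.Quotient.field n
  exact isReduced_tensor_of_injective _ i i.toRingHom.injective K
    (isReduced_tensor_of_geometricallyReduced _ (hsep x'.1 x'.2) K)

end Groth.L22.Norm.FlatInvariance
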