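import Groth.Agent.L22.Norm.DvrFieldExt
import Groth.Agent.L22.Norm.DeltaFieldExtScheme
import Groth.Agent.L22.Norm.Coker
import Groth.Agent.L22.AffineDim
import Groth.Agent.L07.FieldStalk
import Groth.Agent.S1541
import Mathlib.FieldTheory.IntermediateField.Adjoin.Basic

/-!
Normalisation in codimension one with separable residue fields.
-/

set_option autoImplicit false
set_option linter.style.haveILetI false
set_option backward.isDefEq.respectTransparency.types false
set_option maxSynthPendingDepth 3

universe u

open CategoryTheory CategoryTheory.Limits AlgebraicGeometry TensorProduct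

namespace Groth.L22.Norm.GeomRegularCodimOne

variable (k : Type u) [Field k] (X : Scheme.{u}) [X.Over (Spec (CommRingCat.of k))]
    [IsIntegral X] [LocallyOfFiniteType (X ↘ (Spec (CommRingCat.of k)))]
    [QuasiCompact (X.fromSpecStalk (genericPoint X))] [QuasiSeparated (X.fromSpecStalk (genericPoint X))]

include k in
theorem isFinite_normalization : IsFinite (Curv2.normalizationι X) :=
  Groth.L22.Norm.isFinite_normalizationι X fun U => by
    letI : Algebra k Γ(X, U.1) := (Groth.L22.SchemeDim.sectHom k X U.1).toAlgebra
    haveI : Algebra.FiniteType k Γ(X, U.1) :=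
      RingHom.finiteType_algebraMap.1 (Groth.L22.SchemeDim.finiteType_sectHom k X U.2)
    exact Groth.L01.Nagata.isNagata_of_finiteType (R := k) (S := Γ(X, U.1)) (Groth.L18.NormField.isNagata_field k)

include k in
/-- Over a point of codimension one the normalisation has discrete valuation rings. -/
theorem isDVR_stalk (x' : ↥(Curv2.normalization X))
    (hdim : ringKrullDim ↥(X.presheaf.stalk ((Curv2.normalizationι X) x')) = 1) :
    Function.Injective ((Curv2.normalizationι X).stalkMap x').hom ∧
      ∃ _ : IsDomain ((Curv2.normalization X).presheaf.stalk x'),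
        IsDiscreteValuationRing ((Curv2.normalization X).presheaf.stalk x') := by
  haveI := isFinite_normalization k X
  haveI : LocallyOfFiniteType (Curv2.normalizationι X ≫ (X ↘ Spec (CommRingCat.of k))) := inferInstance
  haveI : IsLocallyNoetherian (Curv2.normalization X) :=
    LocallyOfFiniteType.isLocallyNoetherian (Curv2.normalizationι X ≫ (X ↘ Spec (CommRingCat.of k)))
  obtain ⟨U, hU, hxU, -⟩ := exists_isAffineOpen_mem_and_subset
    (TopologicalSpace.Opens.mem_top ((Curv2.normalizationι X) x'))
  have hne : (U : Set X).Nonempty := ⟨_, hxU⟩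
  haveI : Nonempty U := hne.to_subtype
  have hV : IsAffineOpen (Curv2.normalizationι X ⁻¹ᵁ U) := hU.preimage _
  haveI := IsLocallyNoetherian.component_noetherian ⟨_, hV⟩
  letI : Algebra Γ(X, U) Γ(Curv2.normalization X, Curv2.normalizationι X ⁻¹ᵁ U) :=
    ((Curv2.normalizationι X).app U).hom.toAlgebra
  obtain ⟨κ, hT, hIC⟩ := Groth.L22.Norm.exists_isIntegralClosure X hU hne
  letI := κ.toAlgebra
  haveI := hT
  haveI := hIC
  haveI : IsFractionRing Γ(X, U) X.functionField := functionField_isFractionRing_of_isAffineOpen X U hU
  let A₀ := Γ(X, U)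
  let B := Γ(Curv2.normalization X, Curv2.normalizationι X ⁻¹ᵁ U)
  have hinjB : Function.Injective (algebraMap B X.functionField) :=
    IsIntegralClosure.algebraMap_injective B A₀ X.functionField
  have hinj : Function.Injective (algebraMap A₀ B) := fun a b h => by
    apply IsFractionRing.injective A₀ X.functionField
    rw [IsScalarTower.algebraMap_apply A₀ B X.functionField, IsScalarTower.algebraMap_apply A₀ B X.functionField, h]
  haveI : IsDomain B := hinjB.isDomain
  haveI : Algebra.IsIntegral A₀ B := IsIntegralClosure.isIntegral_algebra A₀ X.functionField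
  haveI : Algebra.IsAlgebraic A₀ X.functionField :=
    (IsFractionRing.comap_isAlgebraic_iff (A := A₀) (K := X.functionField) (C := X.functionField)).mpr inferInstance
  haveI : IsFractionRing B X.functionField := IsIntegralClosure.isFractionRing_of_algebraic A₀ B
    (fun a ha => IsFractionRing.injective A₀ X.functionField (ha.trans (map_zero _).symm))
  haveI : IsIntegrallyClosed B := (isIntegrallyClosed_iff X.functionField).2 fun {z} hz =>
    (IsIntegralClosure.isIntegral_iff (A := B) (R := A₀)).1 (isIntegral_trans (R := A₀) z hz)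
  have hx'V : x' ∈ Curv2.normalizationι X ⁻¹ᵁ U := hxU
  let Q := hV.primeIdealOf ⟨x', hx'V⟩
  let p := hU.primeIdealOf ⟨(Curv2.normalizationι X) x', hxU⟩
  have hQp : Q.asIdeal.comap (algebraMap A₀ B) = p.asIdeal := by
    have h := IsAffineOpen.comap_primeIdealOf_appLE (f := Curv2.normalizationι X) (x := x') U hU _ hV le_rfl hx'V
    rw [← Scheme.Hom.app_eq_appLE] at h
    exact congrArg PrimeSpectrum.asIdeal h
  letI : Algebra A₀ (X.presheaf.stalk ((Curv2.normalizationι X) x')) :=
    TopCat.Presheaf.algebra_section_stalk X.presheaf ⟨_, hxU⟩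
  haveI hlocA : IsLocalization.AtPrime (X.presheaf.stalk ((Curv2.normalizationι X) x')) p.asIdeal :=
    hU.isLocalization_stalk ⟨_, hxU⟩
  letI : Algebra B ((Curv2.normalization X).presheaf.stalk x') :=
    TopCat.Presheaf.algebra_section_stalk (Curv2.normalization X).presheaf ⟨x', hx'V⟩
  haveI hlocB : IsLocalization.AtPrime ((Curv2.normalization X).presheaf.stalk x') Q.asIdeal :=
    hV.isLocalization_stalk ⟨x', hx'V⟩
  let V := (Curv2.normalization X).presheaf.stalk x'
  haveI : IsDomain V := IsLocalization.isDomain_of_le_nonZeroDivisors (R := B) V Q.asIdeal.primeCompl_le_nonZeroDivisors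
  have hsm : ∀ a : A₀, ((Curv2.normalizationι X).stalkMap x').hom
      (algebraMap A₀ (X.presheaf.stalk ((Curv2.normalizationι X) x')) a) = algebraMap B V (algebraMap A₀ B a) :=
    fun a => Scheme.Hom.germ_stalkMap_apply (Curv2.normalizationι X) U x' hxU a
  refine ⟨?_, inferInstance, ?_⟩
  · rw [injective_iff_map_eq_zero]
    intro z hz
    obtain ⟨a, s, rfl⟩ := IsLocalization.exists_mk'_eq p.asIdeal.primeCompl z
    have h1 : algebraMap B V (algebraMap A₀ B a) = 0 := by
      rw [← hsm, ← IsLocalization.mk'_spec (X.presheaf.stalk ((Curv2.normalizationι X) x')) a s, map_mul, hz, zero_mul]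
    have h2 : a = 0 := hinj ((IsLocalization.injective V Q.asIdeal.primeCompl_le_nonZeroDivisors
      (h1.trans (map_zero _).symm)).trans (map_zero _).symm)
    rw [h2, IsLocalization.mk'_zero]
  · have hpne : p.asIdeal.height = 1 := by
      rw [IsLocalization.AtPrime.ringKrullDim_eq_height p.asIdeal] at hdim
      exact_mod_cast hdim
    have hQ0 : Q.asIdeal ≠ ⊥ := fun h => by
      rw [h] at hQp
      have : p.asIdeal = ⊥ := by
        rw [← hQp]
        exact (RingHom.injective_iff_ker_eq_bot _).1 hinj
      rw [this, Ideal.height_bot] at hpne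
      exact zero_ne_one hpne
    haveI : IsIntegrallyClosed V :=
      isIntegrallyClosed_of_isLocalization V Q.asIdeal.primeCompl Q.asIdeal.primeCompl_le_nonZeroDivisors
    haveI : IsNoetherianRing V := IsLocalization.isNoetherianRing Q.asIdeal.primeCompl V inferInstance
    haveI : Ring.DimensionLEOne V := ⟨fun {P} hP0 hP => by
      haveI := hP
      have hPQ : P.comap (algebraMap B V) ≤ Q.asIdeal := fun b hb => by
        by_contra hc
        exact hP.ne_top (Ideal.eq_top_of_isUnit_mem _ hb (IsLocalization.map_units V (⟨b, hc⟩ : Q.asIdeal.primeCompl)))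
      rcases hPQ.eq_or_lt with h | h
      · have : P = IsLocalRing.maximalIdeal V := by
          rw [← IsLocalization.AtPrime.map_eq_maximalIdeal Q.asIdeal V, ← h,
            IsLocalization.map_under Q.asIdeal.primeCompl V P]
        rw [this]
        infer_instance
      · exfalso
        haveI : (P.comap (algebraMap B V)).IsPrime := Ideal.IsPrime.comap _
        have hlt : (P.comap (algebraMap B V)).comap (algebraMap A₀ B) < p.asIdeal :=
          hQp ▸ Ideal.IsIntegral.comap_lt_comap (R := A₀) h
        have h0 : ((P.comap (algebraMap B V)).comap (algebraMap A₀ B)).height + 1 ≤ 1 :=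
          hpne ▸ Ideal.height_add_one_le_of_lt_of_isPrime hlt
        have h00 : ((P.comap (algebraMap B V)).comap (algebraMap A₀ B)).height = 0 :=
          le_antisymm ((ENat.add_le_add_iff_right ENat.one_ne_top).1 (h0.trans (le_of_eq (zero_add 1).symm))) (zero_le)
        haveI : ((P.comap (algebraMap B V)).comap (algebraMap A₀ B)).IsPrime := Ideal.IsPrime.comap _
        have hmin := Ideal.height_eq_zero_iff.1 h00
        rw [IsDomain.minimalPrimes_eq_singleton_bot, Set.mem_singleton_iff] at hmin
        have hb : P.comap (algebraMap B V) = ⊥ := Ideal.eq_bot_of_comap_eq_bot (R := A₀) hmin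
        exact hP0 (by rw [← IsLocalization.map_under Q.asIdeal.primeCompl V P, Ideal.under_def, hb, Ideal.map_bot])⟩
    haveI : IsDedekindDomain V := { }
    have hf : ¬ IsField V := fun hf => hQ0 (by
      rw [IsLocalRing.isField_iff_maximalIdeal_eq, ← IsLocalization.AtPrime.map_eq_maximalIdeal Q.asIdeal V,
        Ideal.map_eq_bot_iff_le_ker] at hf
      exact le_bot_iff.1 (hf.trans ((RingHom.injective_iff_ker_eq_bot _).1
        (IsLocalization.injective V Q.asIdeal.primeCompl_le_nonZeroDivisors)).le))
    exact (show IsDedekindDomain V ↔ IsDiscreteValuationRing V from (IsDiscreteValuationRing.TFAE V hf).out 2 0).1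
      inferInstance

attribute [local instance] Curv2.stalkAlgebra

theorem main (x : ↥X) (hdim : ringKrullDim ↥(X.presheaf.stalk x) = 1)
    (hsep : letI : (Curv2.normalization X).Over (Spec (CommRingCat.of k)) := ⟨Curv2.normalizationι X ≫ (X ↘ (Spec (CommRingCat.of k)))⟩
      ∀ x' : ↥(Curv2.normalization X), Curv2.normalizationι X x' = x →
        GeometricallyReduced (Spec.map (CommRingCat.ofHom (Curv2.resMap k (Curv2.normalization X) x')))) :
    Curv2.IsGeomReducedAt k X x ∧
      letI : (Curv2.normalization X).Over (Spec (CommRingCat.of k)) := ⟨Curv2.normalizationι X ≫ (X ↘ (Spec (CommRingCat.of k)))⟩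
      ∀ x' : ↥(Curv2.normalization X), Curv2.normalizationι X x' = x → Curv2.IsGeomRegularAt k (Curv2.normalization X) x' := by
  letI : (Curv2.normalization X).Over (Spec (CommRingCat.of k)) := ⟨Curv2.normalizationι X ≫ (X ↘ (Spec (CommRingCat.of k)))⟩
  have hgeo : ∀ x' : ↥(Curv2.normalization X), Curv2.normalizationι X x' = x →
      Algebra.IsGeometricallyReduced k (IsLocalRing.ResidueField ((Curv2.normalization X).presheaf.stalk x')) := by
    intro x' hx'
    letI : Algebra k ((Curv2.normalization X).residueField x') := (Curv2.resMap k (Curv2.normalization X) x').toAlgebra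
    have h := Groth.L22.Norm.FlatInvariance.isReduced_tensor_of_geometricallyReduced
      ((Curv2.normalization X).residueField x') (hsep x' hx') (AlgebraicClosure k)
    rw [Algebra.isGeometricallyReduced_field_iff]
    haveI : _root_.IsReduced (IsLocalRing.ResidueField ((Curv2.normalization X).presheaf.stalk x') ⊗[k]
      AlgebraicClosure k) := h
    exact isReduced_of_injective (Algebra.TensorProduct.comm k (AlgebraicClosure k)
      (IsLocalRing.ResidueField ((Curv2.normalization X).presheaf.stalk x')))
      (Algebra.TensorProduct.comm k (AlgebraicClosure k) _).injective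
  refine ⟨(Groth.Agent.S1541.result k X x).2 ?_, ?_⟩
  · obtain ⟨ψ, -, -, -, hψm⟩ := Groth.L22.Norm.exists_surjective_normRed X x
    haveI : Nontrivial (CAlg2.normRed (X.presheaf.stalk x)) := by
      obtain ⟨e, -⟩ := Groth.L22.Norm.FlatInvariance.exists_normRed_ringEquiv (X.presheaf.stalk x)
      exact e.symm.toEquiv.nontrivial
    obtain ⟨m, hm⟩ := Ideal.exists_maximal (CAlg2.normRed (X.presheaf.stalk x))
    obtain ⟨⟨x', hx'⟩, -⟩ := hψm ⟨m, hm⟩
    subst hx'
    obtain ⟨hinj, _, _⟩ := isDVR_stalk k X x' hdim
    haveI := Groth.L22.Norm.DvrFieldExt.isReduced_tensor k ((Curv2.normalization X).presheaf.stalk x')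
      (hgeo x' rfl) (AlgebraicClosure k)
    let φ : X.presheaf.stalk ((Curv2.normalizationι X) x') →ₐ[k] (Curv2.normalization X).presheaf.stalk x' :=
      { ((Curv2.normalizationι X).stalkMap x').hom with
        commutes' := fun c => by
          show ((Curv2.normalizationι X).stalkMap x').hom (Curv2.stalkMap k X _ c) =
            Curv2.stalkMap k (Curv2.normalization X) x' c
          exact Scheme.Hom.germ_stalkMap_apply (Curv2.normalizationι X) ⊤ x' trivial _ }
    rw [Algebra.isGeometricallyReduced_field_iff]
    exact isReduced_of_injective ((Algebra.TensorProduct.map φ (AlgHom.id k (AlgebraicClosure k))).comp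
        (Algebra.TensorProduct.comm k (AlgebraicClosure k) (X.presheaf.stalk ((Curv2.normalizationι X) x'))).toAlgHom)
      ((Module.Flat.rTensor_preserves_injective_linearMap φ.toLinearMap hinj).comp
        (Algebra.TensorProduct.comm k (AlgebraicClosure k) _).injective)
  · intro x' hx' K _ _ hK y hy
    subst hx'
    obtain ⟨-, _, _⟩ := isDVR_stalk k X x' hdim
    haveI : Algebra.EssFiniteType k K := IntermediateField.fg_top_iff.mp hK
    obtain ⟨Q, hQ, ⟨e⟩⟩ := Groth.L07.FieldStalk.exists_point_over k (Curv2.normalization X) x' K y hy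
    let V := (Curv2.normalization X).presheaf.stalk x'
    let c : TensorProduct k V K ≃ₐ[k] TensorProduct k K V := Algebra.TensorProduct.comm k V K
    let q : Ideal (TensorProduct k V K) := Q.asIdeal.comap c.toRingEquiv.toRingHom
    haveI : IsRegularLocalRing (Localization.AtPrime q) := by
      refine Groth.L22.Norm.DvrFieldExt.isRegularLocalRing_atPrime k V (hgeo x' rfl) K q ?_
      rw [← hQ, Ideal.comap_comap]
      congr 1
    let e' : Localization.AtPrime q ≃+* Localization.AtPrime Q.asIdeal :=
      IsLocalization.ringEquivOfRingEquiv (M := q.primeCompl) (T := Q.asIdeal.primeCompl) _ _ c.toRingEquiv (by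
        ext z
        refine ⟨fun ⟨w, hw, hwz⟩ => hwz ▸ hw, fun hz => ⟨c.symm z, ?_, c.apply_symm_apply z⟩⟩
        show c (c.symm z) ∉ Q.asIdeal
        rwa [AlgEquiv.apply_symm_apply])
    exact IsRegularLocalRing.of_ringEquiv (e'.trans e)

end Groth.L22.Norm.GeomRegularCodimOne
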