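import Groth.Agent.L22.Norm.FlatInvariance
import Groth.Agent.L07.FieldStalk
import Mathlib.AlgebraicGeometry.Geometrically.Reduced

/-!
The δ-invariant and extensions of the ground field.
-/

set_option autoImplicit false
set_option linter.style.haveILetI false
set_option backward.isDefEq.respectTransparency.types false
set_option maxSynthPendingDepth 3

universe u

open TensorProduct IsLocalRing

namespace Groth.L22.Norm.FlatInvariance

theorem exists_mul_eq_zero_of_minimal {R : Type u} [CommRing R] [IsReduced R] (P : Ideal R)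
    (hP : P ∈ minimalPrimes R) {t : R} (ht : t ∈ P) : ∃ u ∉ P, u * t = 0 := by
  haveI := hP.isPrime
  let L := Localization.AtPrime P
  haveI : IsReduced L := isReduced_localizationPreserves P.primeCompl L ‹IsReduced R›
  have hnil : algebraMap R L t ∈ nilradical L := by
    rw [nilradical_eq_sInf, Submodule.mem_sInf]
    intro (J : Ideal L) hJ
    haveI : J.IsPrime := hJ
    have hle : J.comap (algebraMap R L) ≤ P := fun x hx => by
      by_contra h
      exact hJ.ne_top (J.eq_top_of_isUnit_mem hx (IsLocalization.map_units L (⟨x, h⟩ : P.primeCompl)))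
    exact hP.2 ⟨Ideal.IsPrime.comap (algebraMap R L), bot_le⟩ hle ht
  rw [nilradical_eq_zero] at hnil
  obtain ⟨⟨c, hc⟩, h⟩ := (IsLocalization.map_eq_zero_iff P.primeCompl L t).1 hnil
  exact ⟨c, hc, h⟩

variable (k : Type u) [Field k] (K : Type u) [Field K] [Algebra k K]
variable (A : Type u) [CommRing A] [IsLocalRing A] [Algebra k A] [IsNoetherianRing A] [IsReduced A]

local notation "A'" => integralClosure A (FractionRing A)

set_option maxHeartbeats 1000000 in
theorem deltaInv_fieldExt (hfin : Module.Finite A A') (hdim : ringKrullDim A = 1)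
    (q : Ideal (A ⊗[k] K)) [q.IsPrime] (hq : q.comap (algebraMap A (A ⊗[k] K)) = maximalIdeal A)
    (B : Type u) [CommRing B] [IsLocalRing B] [IsNoetherianRing B] [Algebra (A ⊗[k] K) B]
    [IsLocalization.AtPrime B q] (hdB : ringKrullDim B ≤ 1)
    (hgeo : ∀ (n : Ideal A') [n.IsMaximal], IsReduced ((A' ⧸ n) ⊗[k] K)) :
    Curv2.deltaInv B = Curv2.deltaInv A := by
  classical
  let T0 := A ⊗[k] K
  letI : Algebra A B := ((algebraMap T0 B).comp (algebraMap A T0)).toAlgebra
  haveI : IsScalarTower A T0 B := IsScalarTower.of_algebraMap_eq' rfl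
  haveI : Module.Flat T0 B := IsLocalization.flat B q.primeCompl
  haveI : Module.Flat A B := Module.Flat.trans A T0 B
  haveI : IsLocalHom (algebraMap A B) := ⟨fun a ha => by
    by_contra hn
    rw [IsScalarTower.algebraMap_apply A T0 B, IsLocalization.AtPrime.isUnit_to_map_iff B q] at ha
    exact ha (hq.ge hn)⟩
  haveI := hfin
  haveI : Algebra.IsIntegral A A' := Algebra.IsIntegral.of_finite A A'
  -- the closed fibre is reduced
  let κ := ResidueField A
  haveI hκK : IsReduced (κ ⊗[k] K) := by
    obtain ⟨n, hn⟩ := Ideal.exists_maximal A'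
    haveI := hn
    have hnm := eq_maximalIdeal (Ideal.isMaximal_comap_of_isIntegral_of_isMaximal (R := A) n)
    let j : κ →ₐ[k] A' ⧸ n :=
      { (Ideal.Quotient.lift (maximalIdeal A) ((Ideal.Quotient.mk n).comp (algebraMap A A'))
          fun a ha => Ideal.Quotient.eq_zero_iff_mem.2 (hnm.ge ha)) with
        commutes' := fun c => by
          show Ideal.Quotient.mk n (algebraMap A A' (algebraMap k A c)) = _
          rw [← IsScalarTower.algebraMap_apply k A A']
          rfl }
    haveI := hgeo n
    exact isReduced_of_injective (Algebra.TensorProduct.map j (AlgHom.id k K))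
      (Module.Flat.rTensor_preserves_injective_linearMap j.toLinearMap (RingHom.injective j.toRingHom))
  let π : T0 →ₐ[k] κ ⊗[k] K :=
    Algebra.TensorProduct.map (IsScalarTower.toAlgHom k A κ) (AlgHom.id k K)
  have hπs : Function.Surjective π :=
    TensorProduct.map_surjective residue_surjective Function.surjective_id
  have hπk : RingHom.ker π.toRingHom = (maximalIdeal A).map (algebraMap A T0) := by
    refine (Algebra.TensorProduct.map_ker _ _ residue_surjective Function.surjective_id).trans ?_
    rw [show RingHom.ker (AlgHom.id k K) = ⊥ from (RingHom.injective_iff_ker_eq_bot _).1 fun a b h => h,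
      Ideal.map_bot, sup_bot_eq, show RingHom.ker (IsScalarTower.toAlgHom k A κ) = maximalIdeal A from IsLocalRing.ker_residue]
    rfl
  have hπq : RingHom.ker π.toRingHom ≤ q := hπk.le.trans (Ideal.map_le_iff_le_comap.2 hq.ge)
  haveI : (q.map π.toRingHom).IsPrime := Ideal.map_isPrime_of_surjective hπs hπq
  have hmin : q.map π.toRingHom ∈ minimalPrimes (κ ⊗[k] K) := by
    refine ⟨⟨inferInstance, bot_le⟩, fun Q hQ hQq => ?_⟩
    haveI := hQ.1
    by_contra hne
    haveI : (Q.comap π.toRingHom).IsPrime := Ideal.IsPrime.comap _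
    have hQ1 : Q.comap π.toRingHom ≤ q := (Ideal.comap_mono hQq).trans <| by
      refine le_of_eq ((Ideal.comap_map_of_surjective π.toRingHom hπs q).trans (sup_eq_left.2 ?_))
      exact hπq
    have hQlt : Q.comap π.toRingHom < q := lt_of_le_of_ne hQ1 fun e => hne <| by
      rw [← e, Ideal.map_comap_of_surjective π.toRingHom hπs Q]
    have hQm : (Q.comap π.toRingHom).comap (algebraMap A T0) = maximalIdeal A := by
      refine le_antisymm (le_maximalIdeal (Ideal.IsPrime.ne_top inferInstance)) ?_
      rw [← Ideal.map_le_iff_le_comap]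
      exact hπk.ge.trans (fun x hx => by
        show π.toRingHom x ∈ Q
        rw [RingHom.mem_ker.1 hx]; exact zero_mem _)
    obtain ⟨P0, hP0, hP0m⟩ := Ideal.exists_minimalPrimes_le (I := (⊥ : Ideal A)) (J := maximalIdeal A) bot_le
    haveI := hP0.1.1
    have hP0lt : P0 < maximalIdeal A := lt_of_le_of_ne hP0m fun e => by
      have h0 : (maximalIdeal A).height = 0 := Ideal.height_eq_zero_iff.2 (e ▸ hP0)
      have := IsLocalRing.maximalIdeal_height_eq_ringKrullDim (R := A)
      rw [h0, hdim] at this
      exact zero_ne_one this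
    haveI : (Q.comap π.toRingHom).LiesOver (maximalIdeal A) := ⟨hQm.symm⟩
    haveI : Algebra.HasGoingDown A T0 := Algebra.HasGoingDown.of_flat
    obtain ⟨Q0, hQ0Q, hQ0, hQ0'⟩ := Ideal.exists_ideal_le_liesOver_of_le (Q.comap π.toRingHom) (p := P0)
      (q := maximalIdeal A) hP0m
    haveI := hQ0
    have hQ0lt : Q0 < Q.comap π.toRingHom := lt_of_le_of_ne hQ0Q fun e => hP0lt.ne <| by
      rw [hQ0'.over]
      show Q0.comap (algebraMap A T0) = _
      rw [e, hQm]
    have h2 : (2 : ℕ∞) ≤ q.height := by
      refine le_trans ?_ (Ideal.height_add_one_le_of_lt_of_isPrime hQlt)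
      refine le_trans (le_of_eq one_add_one_eq_two.symm) (add_le_add ?_ le_rfl)
      exact le_trans le_add_self (Ideal.height_add_one_le_of_lt_of_isPrime hQ0lt)
    rw [IsLocalization.AtPrime.ringKrullDim_eq_height q B] at hdB
    have h21 : (2 : ℕ∞) ≤ 1 := h2.trans (by exact_mod_cast hdB)
    norm_num at h21
  have hm : (maximalIdeal A).map (algebraMap A B) = maximalIdeal B := by
    refine le_antisymm ((show IsLocalHom (algebraMap A B) ↔ (maximalIdeal A).map (algebraMap A B) ≤ maximalIdeal B from (local_hom_TFAE (algebraMap A B)).out 0 2).1 inferInstance) ?_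
    rw [← IsLocalization.AtPrime.map_eq_maximalIdeal q B, IsScalarTower.algebraMap_eq A T0 B, ← Ideal.map_map,
      Ideal.map_le_iff_le_comap]
    intro t ht
    obtain ⟨u, hu, hut⟩ := exists_mul_eq_zero_of_minimal _ hmin (Ideal.mem_map_of_mem π.toRingHom ht)
    obtain ⟨u, rfl⟩ := hπs u
    have huq : u ∉ q := fun h => hu (Ideal.mem_map_of_mem π.toRingHom h)
    have h1 : u * t ∈ (maximalIdeal A).map (algebraMap A T0) := hπk ▸ (by rw [RingHom.mem_ker, map_mul]; exact hut)
    refine Ideal.mem_comap.2 ((Ideal.unit_mul_mem_iff_mem _ (IsLocalization.map_units B (⟨u, huq⟩ : q.primeCompl))).1 ?_)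
    rw [← map_mul]
    exact Ideal.mem_map_of_mem _ h1
  refine deltaInv_eq A B hfin hdim.le hm fun n hn => ?_
  let F := A' ⧸ n
  haveI := hgeo n
  let R0 := T0 ⊗[A] F
  let e0 : R0 ≃+* F ⊗[k] K := ((Algebra.TensorProduct.comm A T0 F).trans
    (Algebra.TensorProduct.cancelBaseChange k A A F K)).toRingEquiv
  haveI : IsReduced R0 := isReduced_of_injective e0 e0.injective
  letI : Algebra R0 (B ⊗[T0] R0) := Algebra.TensorProduct.rightAlgebra
  haveI : IsLocalization (Algebra.algebraMapSubmonoid R0 q.primeCompl) (B ⊗[T0] R0) :=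
    IsLocalization.tensorRight (S := R0) B q.primeCompl
  haveI : IsReduced (B ⊗[T0] R0) :=
    isReduced_localizationPreserves (Algebra.algebraMapSubmonoid R0 q.primeCompl) (B ⊗[T0] R0) ‹IsReduced R0›
  let e1 : B ⊗[T0] R0 ≃+* B ⊗[A] F := (Algebra.TensorProduct.cancelBaseChange A T0 T0 B F).toRingEquiv
  haveI : IsReduced (B ⊗[A] F) := isReduced_of_injective e1.symm e1.symm.injective
  exact isReduced_of_injective (Algebra.TensorProduct.comm A F B) (Algebra.TensorProduct.comm A F B).injective

end Groth.L22.Norm.FlatInvariance
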