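import Groth.Agent.L01.Regular
import Groth.Agent.S2615
import Groth.Agent.L03.GeomReduced2
import Mathlib.RingTheory.DiscreteValuationRing.TFAE
import Mathlib.RingTheory.TensorProduct.Free
import Mathlib.RingTheory.Filtration
import Mathlib.RingTheory.EssentialFiniteness
import Mathlib.RingTheory.Nilpotent.GeometricallyReduced

/-!
Valuation rings with geometrically reduced residue field under extension of the ground field.
-/

set_option autoImplicit false
set_option linter.style.haveILetI false
set_option backward.isDefEq.respectTransparency.types false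
set_option maxSynthPendingDepth 3

universe u

open TensorProduct IsLocalRing

namespace Groth.L22.Norm.DvrFieldExt

variable (k : Type u) [Field k] (V : Type u) [CommRing V] [IsDomain V] [IsDiscreteValuationRing V] [Algebra k V]
  (hgeo : Algebra.IsGeometricallyReduced k (ResidueField V)) (K : Type u) [Field K] [Algebra k K]

theorem isSMulRegular_uniformizer {π : V} (hπ : π ≠ 0) :
    IsSMulRegular (V ⊗[k] K) (algebraMap V (V ⊗[k] K) π) :=
  IsSMulRegular.of_flat (S := V ⊗[k] K) (IsSMulRegular.of_ne_zero hπ)

theorem ker_map {π : V} (hm : maximalIdeal V = Ideal.span {π}) :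
    RingHom.ker (Algebra.TensorProduct.map (IsScalarTower.toAlgHom k V (ResidueField V)) (AlgHom.id k K)).toRingHom =
      Ideal.span {algebraMap V (V ⊗[k] K) π} := by
  refine (Algebra.TensorProduct.map_ker _ _ residue_surjective Function.surjective_id).trans ?_
  rw [show RingHom.ker (AlgHom.id k K) = ⊥ from (RingHom.injective_iff_ker_eq_bot _).1 fun a b h => h,
    Ideal.map_bot, sup_bot_eq,
    show RingHom.ker (IsScalarTower.toAlgHom k V (ResidueField V)) = maximalIdeal V from IsLocalRing.ker_residue,
    hm, Ideal.map_span, Set.image_singleton]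
  rfl

include hgeo in
theorem isReduced_residue : IsReduced (ResidueField V ⊗[k] K) := by
  haveI := hgeo
  haveI := Groth.L03.GeomReduced2.isReduced_of_isGeometricallyReduced (S := ResidueField V) (k := k) K
  exact isReduced_of_injective (Algebra.TensorProduct.comm k (ResidueField V) K)
    (Algebra.TensorProduct.comm k (ResidueField V) K).injective

include hgeo in
/-- The extended ring is reduced. -/
theorem isReduced_tensor : IsReduced (V ⊗[k] K) := by
  classical
  haveI := isReduced_residue k V hgeo K
  obtain ⟨π, hπ⟩ := IsDiscreteValuationRing.exists_irreducible V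
  have hm : maximalIdeal V = Ideal.span {π} := hπ.maximalIdeal_eq
  have hπ0 : π ≠ 0 := hπ.ne_zero
  let q := (Algebra.TensorProduct.map (IsScalarTower.toAlgHom k V (ResidueField V)) (AlgHom.id k K)).toRingHom
  have hker := ker_map k V K hm
  have key : ∀ (j : ℕ) (z : V ⊗[k] K), IsNilpotent z → ∃ w, z = algebraMap V (V ⊗[k] K) π ^ j * w := by
    intro j
    induction j with
    | zero => exact fun z _ => ⟨z, by simp⟩
    | succ j ih =>
      intro z hz
      have h0 : z ∈ RingHom.ker q := (hz.map q).eq_zero
      rw [hker, Ideal.mem_span_singleton] at h0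
      obtain ⟨z₁, rfl⟩ := h0
      obtain ⟨N, hN⟩ := hz
      rw [mul_pow] at hN
      have hz₁ : IsNilpotent z₁ :=
        ⟨N, ((isSMulRegular_uniformizer k V K hπ0).pow N) (show _ • z₁ ^ N = _ • (0 : V ⊗[k] K) by
          rw [smul_eq_mul, smul_zero]; exact hN)⟩
      obtain ⟨w, rfl⟩ := ih z₁ hz₁
      exact ⟨w, by ring⟩
  refine ⟨fun z hz => ?_⟩
  let b := Algebra.TensorProduct.basis V (Module.Free.chooseBasis k K)
  refine b.repr.map_eq_zero_iff.1 (Finsupp.ext fun i => ?_)
  have hmem : b.repr z i ∈ ⨅ j : ℕ, maximalIdeal V ^ j := by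
    rw [Ideal.mem_iInf]
    intro j
    obtain ⟨w, hw⟩ := key j z hz
    rw [hw, ← map_pow, ← Algebra.smul_def, map_smul, Finsupp.smul_apply, smul_eq_mul, hm, Ideal.span_singleton_pow]
    exact Ideal.mul_mem_right _ _ (Ideal.mem_span_singleton_self _)
  rwa [Ideal.iInf_pow_eq_bot_of_isLocalRing _ (Ideal.IsMaximal.ne_top inferInstance), Ideal.mem_bot] at hmem

include hgeo in
/-- The extended ring is regular over the closed point. -/
theorem isRegularLocalRing_atPrime [Algebra.EssFiniteType k K] (P : Ideal (V ⊗[k] K)) [P.IsPrime]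
    (hP : P.comap (algebraMap V (V ⊗[k] K)) = maximalIdeal V) : IsRegularLocalRing (Localization.AtPrime P) := by
  classical
  haveI := hgeo
  obtain ⟨π, hπ⟩ := IsDiscreteValuationRing.exists_irreducible V
  have hm : maximalIdeal V = Ideal.span {π} := hπ.maximalIdeal_eq
  have hπ0 : π ≠ 0 := hπ.ne_zero
  haveI : IsNoetherianRing (V ⊗[k] K) := Algebra.EssFiniteType.isNoetherianRing V _
  let κ := ResidueField V
  haveI : IsNoetherianRing (κ ⊗[k] K) := Algebra.EssFiniteType.isNoetherianRing κ _
  haveI : IsNoetherianRing (K ⊗[k] κ) := isNoetherianRing_of_ringEquiv _ (Algebra.TensorProduct.comm k κ K).toRingEquiv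
  haveI hregK : IsRegularRing (K ⊗[k] κ) := Groth.Agent.S2615.result k K κ (Or.inl inferInstance)
  let q := (Algebra.TensorProduct.map (IsScalarTower.toAlgHom k V (ResidueField V)) (AlgHom.id k K)).toRingHom
  have hqs : Function.Surjective q := TensorProduct.map_surjective residue_surjective Function.surjective_id
  have hker := ker_map k V K hm
  have hπP : algebraMap V (V ⊗[k] K) π ∈ P := hP.ge (hm.ge (Ideal.mem_span_singleton_self π))
  have hqP : RingHom.ker q ≤ P := hker.le.trans ((Ideal.span_singleton_le_iff_mem _).2 hπP)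
  haveI : (P.map q).IsPrime := Ideal.map_isPrime_of_surjective hqs hqP
  have hPc : P = (P.map q).comap q := ((Ideal.comap_map_of_surjective q hqs P).trans (sup_eq_left.2 hqP)).symm
  let C := Localization.AtPrime P
  let L := Localization.AtPrime (P.map q)
  let g : C →+* L := Localization.localRingHom P (P.map q) q hPc
  have hgs : Function.Surjective g := by
    intro z
    obtain ⟨t, ⟨s, hs⟩, rfl⟩ := IsLocalization.exists_mk'_eq (P.map q).primeCompl z
    obtain ⟨t', rfl⟩ := hqs t
    obtain ⟨s', rfl⟩ := hqs s
    exact ⟨IsLocalization.mk' C t' (⟨s', fun h => hs (Ideal.mem_map_of_mem q h)⟩ : P.primeCompl),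
      Localization.localRingHom_mk' _ _ _ _ _ _⟩
  let x : C := algebraMap (V ⊗[k] K) C (algebraMap V (V ⊗[k] K) π)
  have hgk : RingHom.ker g = Ideal.span {x} := by
    refine le_antisymm (fun z hz => ?_) ?_
    · obtain ⟨t, ⟨s, hs⟩, rfl⟩ := IsLocalization.exists_mk'_eq P.primeCompl z
      rw [RingHom.mem_ker, Localization.localRingHom_mk', IsLocalization.mk'_eq_zero_iff] at hz
      obtain ⟨⟨w, hw⟩, hwz⟩ := hz
      obtain ⟨w', rfl⟩ := hqs w
      have hw' : w' ∉ P := fun h => hw (Ideal.mem_map_of_mem q h)
      have hmem : w' * t ∈ RingHom.ker q := by rw [RingHom.mem_ker, map_mul]; exact hwz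
      rw [hker, Ideal.mem_span_singleton] at hmem
      obtain ⟨c, hc⟩ := hmem
      refine (IsLocalization.mk'_mem_iff (S := C)).2 ?_
      refine (Ideal.unit_mul_mem_iff_mem _ (IsLocalization.map_units C (⟨w', hw'⟩ : P.primeCompl))).1 ?_
      rw [← map_mul, hc, map_mul]
      exact Ideal.mul_mem_right _ _ (Ideal.mem_span_singleton_self _)
    · rw [Ideal.span_singleton_le_iff_mem, RingHom.mem_ker]
      show g (algebraMap _ C _) = 0
      rw [Localization.localRingHom_to_map, show q (algebraMap V (V ⊗[k] K) π) = 0 from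
        hker.ge (Ideal.mem_span_singleton_self _), map_zero]
  haveI : IsRegularLocalRing L := by
    let P' := (P.map q).comap (Algebra.TensorProduct.comm k κ K).symm.toRingEquiv.toRingHom
    haveI := hregK.isRegularLocalRing_localization P'
    let e : Localization.AtPrime P' ≃+* L :=
      IsLocalization.ringEquivOfRingEquiv (M := P'.primeCompl) (T := (P.map q).primeCompl) _ _
        (Algebra.TensorProduct.comm k κ K).symm.toRingEquiv (by
          ext z
          refine ⟨fun ⟨y, hy, hyz⟩ => hyz ▸ hy, fun hz => ⟨Algebra.TensorProduct.comm k κ K z, ?_, ?_⟩⟩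
          · show (Algebra.TensorProduct.comm k κ K).symm (Algebra.TensorProduct.comm k κ K z) ∉ P.map q
            rwa [AlgEquiv.symm_apply_apply]
          · exact AlgEquiv.symm_apply_apply _ z)
    exact IsRegularLocalRing.of_ringEquiv e
  let e : C ⧸ Ideal.span {x} ≃+* L :=
    (Ideal.quotEquivOfEq hgk.symm).trans (RingHom.quotientKerEquivOfSurjective hgs)
  haveI : Nontrivial (C ⧸ Ideal.span {x}) := e.toEquiv.nontrivial
  haveI : IsRegularLocalRing (C ⧸ Ideal.span {x}) := IsRegularLocalRing.of_ringEquiv e.symm
  haveI : IsNoetherianRing C := IsLocalization.isNoetherianRing P.primeCompl C inferInstance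
  refine Groth.L01.exists_regular_of_quotient (R := C) (x := x)
    ((IsLocalization.AtPrime.to_map_mem_maximal_iff C P _).2 hπP) ?_
  haveI : Module.Flat (V ⊗[k] K) C := IsLocalization.flat C P.primeCompl
  have h1 := IsSMulRegular.of_flat (S := C) (isSMulRegular_uniformizer k V K hπ0)
  rw [mem_nonZeroDivisors_iff_right]
  intro c hc
  exact h1 (show _ • c = _ • (0 : C) by rw [smul_eq_mul, smul_zero, mul_comm]; exact hc)

end Groth.L22.Norm.DvrFieldExt
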