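import Groth.Agent.L22.Cyc.LenTensor
import Groth.Prelude.Def_Curv2
import Mathlib.RingTheory.Localization.FractionRing
import Mathlib.RingTheory.Flat.Stability
import Mathlib.RingTheory.IntegralClosure.IsIntegralClosure.Basic

/-!
The δ-invariant grows along flat local homomorphisms.
-/

set_option autoImplicit false
set_option linter.style.haveILetI false
set_option backward.isDefEq.respectTransparency.types false
set_option maxSynthPendingDepth 3

universe u

open TensorProduct IsLocalRing

namespace Groth.L22.Norm.FlatInequality

variable (A : Type u) [CommRing A] (B : Type u) [CommRing B] [Algebra A B] [Module.Flat A B]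

local notation "A'" => integralClosure A (FractionRing A)

/-- The base change of the normalisation embeds in the normalisation. -/
theorem exists_injective_comparison :
    ∃ f : B ⊗[A] A' →ₗ[B] integralClosure B (FractionRing B),
      Function.Injective f ∧ f (1 ⊗ₜ 1) = 1 := by
  classical
  have hnzd : ∀ s : nonZeroDivisors A, algebraMap A B s ∈ nonZeroDivisors B := fun s => by
    rw [mem_nonZeroDivisors_iff_right]
    intro b hb
    have hs : IsSMulRegular A (s : A) := fun x y h =>
      (mul_cancel_left_mem_nonZeroDivisors s.2).1 h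
    exact ((IsSMulRegular.of_flat (S := B) hs) (show algebraMap A B s • b = algebraMap A B s • (0 : B) by
      rw [smul_eq_mul, smul_zero, mul_comm]; exact hb))
  let g₀ : FractionRing A →+* FractionRing B :=
    IsLocalization.lift (g := (algebraMap B (FractionRing B)).comp (algebraMap A B)) fun s =>
      IsLocalization.map_units (FractionRing B) (⟨_, hnzd s⟩ : nonZeroDivisors B)
  let g : FractionRing A →ₐ[A] FractionRing B :=
    { g₀ with
      commutes' := fun a => by
        show g₀ (algebraMap A (FractionRing A) a) = _
        rw [IsLocalization.lift_eq, IsScalarTower.algebraMap_apply A B (FractionRing B)]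
        rfl }
  let Ψ : B ⊗[A] FractionRing A →ₐ[B] FractionRing B :=
    Algebra.TensorProduct.lift (Algebra.ofId B (FractionRing B)) g fun _ _ => Commute.all _ _
  have hΨ : Function.Injective Ψ := by
    have hrep : ∀ z : B ⊗[A] FractionRing A, ∃ (s : nonZeroDivisors A) (b : B),
        z * (1 ⊗ₜ algebraMap A (FractionRing A) s) = b ⊗ₜ 1 := by
      intro z
      induction z using TensorProduct.induction_on with
      | zero => exact ⟨1, 0, by simp⟩
      | tmul b x =>
        obtain ⟨⟨a, s⟩, has⟩ := IsLocalization.surj (nonZeroDivisors A) x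
        refine ⟨s, a • b, ?_⟩
        rw [Algebra.TensorProduct.tmul_mul_tmul, mul_one, has, TensorProduct.smul_tmul, Algebra.smul_def, mul_one]
      | add x y hx hy =>
        obtain ⟨s, b, hb⟩ := hx
        obtain ⟨t, c, hc⟩ := hy
        refine ⟨s * t, (t : A) • b + (s : A) • c, ?_⟩
        have h1 : ((1 : B) ⊗ₜ[A] algebraMap A (FractionRing A) (s * t : nonZeroDivisors A)) =
            (1 ⊗ₜ algebraMap A (FractionRing A) s) * (1 ⊗ₜ algebraMap A (FractionRing A) t) := by
          rw [Algebra.TensorProduct.tmul_mul_tmul, mul_one, Submonoid.coe_mul, map_mul]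
        have h2 : ∀ (r : A) (w : B), (r • w) ⊗ₜ[A] (1 : FractionRing A) =
            (w ⊗ₜ[A] 1) * (1 ⊗ₜ algebraMap A (FractionRing A) r) := fun r w => by
          rw [Algebra.TensorProduct.tmul_mul_tmul, mul_one, one_mul, TensorProduct.smul_tmul, Algebra.smul_def, mul_one]
        rw [TensorProduct.add_tmul, h1, h2, h2, ← hb, ← hc]
        ring
    rw [injective_iff_map_eq_zero]
    intro z hz
    obtain ⟨s, b, hb⟩ := hrep z
    have h := congrArg Ψ hb
    rw [map_mul, hz, zero_mul, Algebra.TensorProduct.lift_tmul, map_one, mul_one] at h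
    have hb0 : b = 0 := IsFractionRing.injective B (FractionRing B) (h.symm.trans (map_zero _).symm)
    have hu : IsUnit ((1 : B) ⊗ₜ[A] algebraMap A (FractionRing A) s) :=
      (IsLocalization.map_units (FractionRing A) s).map (Algebra.TensorProduct.includeRight : FractionRing A →ₐ[A] B ⊗[A] FractionRing A)
    rw [hb0, TensorProduct.zero_tmul] at hb
    exact hu.mul_left_eq_zero.1 hb
  let T := B ⊗[A] A'
  let Θ : T →ₐ[B] FractionRing B := Ψ.comp (Algebra.TensorProduct.map (AlgHom.id B B) (A').val)
  have hΘ : Function.Injective Θ := by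
    refine hΨ.comp ?_
    show Function.Injective (LinearMap.lTensor B (A').val.toLinearMap)
    exact Module.Flat.lTensor_preserves_injective_linearMap _ Subtype.val_injective
  have hrange : ∀ z, Θ z ∈ integralClosure B (FractionRing B) := fun z => by
    induction z using TensorProduct.induction_on with
    | zero => rw [map_zero]; exact zero_mem _
    | add x y hx hy => rw [map_add]; exact add_mem hx hy
    | tmul b a =>
      show algebraMap B (FractionRing B) b * g a.1 ∈ _
      exact mul_mem (Subalgebra.algebraMap_mem _ b) ((a.2.map g).tower_top)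
  exact ⟨(Θ.codRestrict _ hrange).toLinearMap, fun x y h => hΘ (congrArg Subtype.val h), Subtype.ext (map_one Θ)⟩

theorem deltaInv_le [IsLocalRing A] [IsLocalRing B] [IsLocalHom (algebraMap A B)] :
    Curv2.deltaInv A ≤ Curv2.deltaInv B := by
  haveI : Module.FaithfullyFlat A B := Module.FaithfullyFlat.of_flat_of_isLocalHom
  obtain ⟨f, hf, hf1⟩ := exists_injective_comparison A B
  let ℓ := Algebra.linearMap A A'
  let R := LinearMap.range ℓ
  let N := LinearMap.range (Algebra.linearMap B (integralClosure B (FractionRing B)))
  have hex : Function.Exact (ℓ.baseChange B) (R.mkQ.baseChange B) := by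
    rw [LinearMap.baseChange_eq_ltensor, LinearMap.baseChange_eq_ltensor]
    exact lTensor_exact B (LinearMap.exact_map_mkQ_range ℓ) R.mkQ_surjective
  have hker : N.comap f = LinearMap.ker (R.mkQ.baseChange B) := by
    rw [LinearMap.exact_iff.1 hex]
    refine le_antisymm ?_ ?_
    · rintro z ⟨b, hb⟩
      refine ⟨b ⊗ₜ 1, hf ?_⟩
      rw [← hb, LinearMap.baseChange_tmul]
      show f (b ⊗ₜ[A] algebraMap A A' 1) = algebraMap B _ b
      rw [map_one, show b ⊗ₜ[A] (1 : A') = b • ((1 : B) ⊗ₜ[A] (1 : A')) by
        rw [TensorProduct.smul_tmul', smul_eq_mul, mul_one], map_smul, hf1, Algebra.algebraMap_eq_smul_one]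
    · rintro _ ⟨w, rfl⟩
      induction w using TensorProduct.induction_on with
      | zero => rw [map_zero]; exact Submodule.zero_mem _
      | add x y hx hy => rw [map_add]; exact Submodule.add_mem _ hx hy
      | tmul b a =>
        refine ⟨a • b, ?_⟩
        rw [LinearMap.baseChange_tmul]
        show algebraMap B _ (a • b) = f (b ⊗ₜ[A] algebraMap A A' a)
        rw [show b ⊗ₜ[A] algebraMap A A' a = (a • b) • ((1 : B) ⊗ₜ[A] (1 : A')) by
          rw [TensorProduct.smul_tmul', smul_eq_mul, mul_one, TensorProduct.smul_tmul, Algebra.algebraMap_eq_smul_one]]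
        exact (Algebra.algebraMap_eq_smul_one (a • b)).trans
          ((congrArg ((a • b) • ·) hf1).symm.trans (f.map_smul (a • b) _).symm)
  have hsurj : Function.Surjective (R.mkQ.baseChange B) := by
    rw [LinearMap.baseChange_eq_ltensor]
    exact LinearMap.lTensor_surjective _ R.mkQ_surjective
  let e := (Submodule.quotEquivOfEq _ _ hker).trans (LinearMap.quotKerEquivOfSurjective _ hsurj)
  show Module.length A _ ≤ Module.length B _
  refine (Groth.L22.Cyc.length_le_length_tensor (B := A) (C := B) _).trans (e.length_eq.ge.trans ?_)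
  exact Module.length_le_of_injective (Submodule.mapQ _ N f le_rfl) (by
    rw [← LinearMap.ker_eq_bot]
    exact Submodule.ker_liftQ_eq_bot _ _ _ (by rw [LinearMap.ker_comp, Submodule.ker_mkQ]))

end Groth.L22.Norm.FlatInequality
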