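import Groth.Agent.L22.Norm.Reduced
import Groth.Agent.L22.Cyc.LenTensor
import Groth.Agent.L22.AffineDim
import Mathlib.RingTheory.DiscreteValuationRing.TFAE
import Mathlib.RingTheory.LocalRing.RingHom.Basic
import Mathlib.RingTheory.Filtration
import Mathlib.RingTheory.Polynomial.ScaleRoots
import Mathlib.RingTheory.Ideal.KrullsHeightTheorem
import Mathlib.LinearAlgebra.TensorProduct.RightExactness

/-!
The δ-invariant and flat local extensions with unramified closed fibre.
-/

set_option autoImplicit false
set_option linter.style.haveILetI false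
set_option backward.isDefEq.respectTransparency.types false
set_option maxSynthPendingDepth 3

universe u

open TensorProduct IsLocalRing

namespace Groth.L22.Norm.FlatInvariance

/-- A reduced ring all of whose primes are maximal is locally killed at each prime. -/
theorem exists_mul_eq_zero {R : Type u} [CommRing R] [IsReduced R]
    (hmax : ∀ P : Ideal R, P.IsPrime → P.IsMaximal) (P : Ideal R) [P.IsPrime] {t : R} (ht : t ∈ P) :
    ∃ u ∉ P, u * t = 0 := by
  let L := Localization.AtPrime P
  haveI : IsReduced L := isReduced_localizationPreserves P.primeCompl L ‹IsReduced R›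
  have hnil : algebraMap R L t ∈ nilradical L := by
    rw [nilradical_eq_sInf, Submodule.mem_sInf]
    intro (J : Ideal L) hJ
    haveI : J.IsPrime := hJ
    have hle : J.comap (algebraMap R L) ≤ P := fun x hx => by
      by_contra h
      exact hJ.ne_top (J.eq_top_of_isUnit_mem hx (IsLocalization.map_units L (⟨x, h⟩ : P.primeCompl)))
    have := (hmax _ (Ideal.IsPrime.comap (algebraMap R L))).eq_of_le (Ideal.IsPrime.ne_top ‹_›) hle
    exact this.ge ht
  rw [nilradical_eq_zero] at hnil
  obtain ⟨⟨c, hc⟩, h⟩ := (IsLocalization.map_eq_zero_iff P.primeCompl L t).1 hnil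
  exact ⟨c, hc, h⟩

/-- A Noetherian local ring with maximal ideal generated by a non-zero-divisor or zero is a normal domain. -/
theorem isDomain_isIntegrallyClosed_of_principal {C : Type u} [CommRing C] [IsLocalRing C] [IsNoetherianRing C]
    (π : C) (hm : maximalIdeal C = Ideal.span {π}) (hπ : π = 0 ∨ IsSMulRegular C π) :
    ∃ _ : IsDomain C, IsIntegrallyClosed C := by
  classical
  have hbot : ⨅ n : ℕ, maximalIdeal C ^ n = ⊥ :=
    Ideal.iInf_pow_eq_bot_of_isLocalRing _ (Ideal.IsMaximal.ne_top inferInstance)
  have hpow : ∀ a : C, a ≠ 0 → ∃ (n : ℕ) (v : C), IsUnit v ∧ a = v * π ^ n := by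
    intro a ha
    obtain ⟨n, hn⟩ : ∃ n : ℕ, a ∉ maximalIdeal C ^ n := by
      by_contra! h
      exact ha (by rw [← Ideal.mem_bot, ← hbot, Ideal.mem_iInf]; exact h)
    induction n generalizing a with
    | zero => simp at hn
    | succ n ih =>
      by_cases hu : IsUnit a
      · exact ⟨0, a, hu, by simp⟩
      · obtain ⟨b, rfl⟩ := Ideal.mem_span_singleton.1 (hm ▸ hu : a ∈ Ideal.span {π})
        have hb0 : b ≠ 0 := fun h => ha (by rw [h, mul_zero])
        obtain ⟨j, v, hv, rfl⟩ := ih b hb0 fun h => hn (by
          rw [pow_succ', hm] at *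
          exact Ideal.mul_mem_mul (Ideal.mem_span_singleton_self π) h)
        exact ⟨j + 1, v, hv, by ring⟩
  rcases hπ with rfl | hreg
  · have hf : IsField C := (IsLocalRing.isField_iff_maximalIdeal_eq).2 (hm.trans (by simp))
    letI := hf.toField
    haveI : IsDomain C := hf.isDomain
    exact ⟨inferInstance, inferInstance⟩
  · haveI : IsDomain C := by
      haveI : NoZeroDivisors C := ⟨fun {a b} hab => by
        by_contra hc
        push Not at hc
        obtain ⟨n, v, hv, rfl⟩ := hpow a hc.1
        obtain ⟨m, w, hw, rfl⟩ := hpow b hc.2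
        have h : π ^ (n + m) = 0 := by
          have : (v * w) * π ^ (n + m) = 0 := by rw [← hab]; ring
          exact (hv.mul hw).mul_right_eq_zero.1 this
        have h1 : (1 : C) = 0 := (hreg.pow (n + m)) (by simp [h])
        exact one_ne_zero h1⟩
      exact NoZeroDivisors.to_isDomain C
    refine ⟨inferInstance, ?_⟩
    have hf : ¬ IsField C := fun hf => by
      have h0 : π = 0 := by
        rw [IsLocalRing.isField_iff_maximalIdeal_eq, hm, Ideal.span_singleton_eq_bot] at hf
        exact hf
      exact one_ne_zero (α := C) (hreg (by simp [h0]))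
    haveI : IsDiscreteValuationRing C :=
      (show IsDiscreteValuationRing C ↔ (maximalIdeal C).IsPrincipal from (IsDiscreteValuationRing.TFAE C hf).out 0 4).2 ⟨π, by rw [hm]⟩
    infer_instance

variable (A : Type u) [CommRing A] [IsNoetherianRing A] [IsReduced A] [IsLocalRing A]
variable (B : Type u) [CommRing B] [IsNoetherianRing B] [IsLocalRing B] [Algebra A B] [Module.Flat A B]
  [IsLocalHom (algebraMap A B)]

local notation "A'" => integralClosure A (FractionRing A)

/-- The maximal ideals of the normalisation of a one-dimensional ring are locally principal. -/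
theorem exists_local_generator (hfin : Module.Finite A A') (hdim : ringKrullDim A ≤ 1) (n : Ideal A') [n.IsMaximal] :
    ∃ π ∈ n, (∀ t ∈ n, ∃ u ∉ n, u * t ∈ Ideal.span {π}) ∧
      ((∃ u ∉ n, u * π = 0) ∨ IsSMulRegular (Localization.AtPrime n) (algebraMap A' (Localization.AtPrime n) π)) := by
  classical
  haveI := hfin
  haveI : IsNoetherianRing A' := IsNoetherianRing.of_finite A A'
  let V := Localization.AtPrime n
  obtain ⟨_, _⟩ := Groth.L22.Norm.isDomain_isIntegrallyClosed_localization A n
  haveI : IsNoetherianRing V := IsLocalization.isNoetherianRing n.primeCompl V inferInstance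
  have hspan : ∀ π ∈ n, maximalIdeal V = Ideal.span {algebraMap A' V π} → ∀ t ∈ n, ∃ u ∉ n, u * t ∈ Ideal.span {π} := by
    intro π _ hm t ht
    have h1 : algebraMap A' V t ∈ maximalIdeal V := (IsLocalization.AtPrime.to_map_mem_maximal_iff V n t).2 ht
    rw [hm, ← Set.image_singleton, ← Ideal.map_span, IsLocalization.algebraMap_mem_map_algebraMap_iff n.primeCompl] at h1
    obtain ⟨u, hu, hut⟩ := h1
    exact ⟨u, hu, hut⟩
  by_cases hf : IsField V
  · refine ⟨0, zero_mem _, hspan 0 (zero_mem _) ?_, Or.inl ⟨1, fun h => ?_, by simp⟩⟩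
    · rw [map_zero, Ideal.span_singleton_zero]
      exact IsLocalRing.isField_iff_maximalIdeal_eq.1 hf
    · exact (Ideal.IsMaximal.ne_top ‹_›) ((Ideal.eq_top_iff_one n).2 h)
  · haveI : Algebra.IsIntegral A A' := Algebra.IsIntegral.of_finite A A'
    haveI : IsPrincipalIdealRing V := by
      have hd : ringKrullDim V ≤ 1 := by
        refine le_trans ?_ hdim
        rw [IsLocalization.AtPrime.ringKrullDim_eq_height n V]
        refine (Ideal.height_le_ringKrullDim_of_ne_top (Ideal.IsMaximal.ne_top ‹_›)).trans ?_
        exact (Groth.L22.AffineDim.ringKrullDim_eq_of_isIntegral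
          fun a b h => IsFractionRing.injective A (FractionRing A) (congrArg Subtype.val h)).le
      haveI : Ring.KrullDimLE 1 V := Ring.krullDimLE_iff.2 hd
      haveI : Ring.DimensionLEOne V := ⟨fun {P} hP0 hP => hP.isMaximal_of_ne_bot hP0⟩
      haveI : IsDedekindDomain V := { }
      haveI : IsDiscreteValuationRing V :=
        (show IsDedekindDomain V ↔ IsDiscreteValuationRing V from (IsDiscreteValuationRing.TFAE V hf).out 2 0).1 inferInstance
      infer_instance
    obtain ⟨g, hg⟩ := (IsPrincipalIdealRing.principal (maximalIdeal V)).principal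
    obtain ⟨⟨π, s⟩, hπ⟩ := IsLocalization.surj n.primeCompl g
    have hspang : maximalIdeal V = Ideal.span {algebraMap A' V π} := by
      rw [← hπ, Ideal.span_singleton_mul_right_unit (IsLocalization.map_units V s)]
      exact hg
    have hπn : π ∈ n := (IsLocalization.AtPrime.to_map_mem_maximal_iff V n π).1 (hspang.ge (Ideal.mem_span_singleton_self _))
    refine ⟨π, hπn, hspan π hπn hspang, Or.inr (IsSMulRegular.of_ne_zero fun h => hf ?_)⟩
    rw [IsLocalRing.isField_iff_maximalIdeal_eq, hspang, h, Ideal.span_singleton_zero]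

/-- Flat base change of the normalisation along an extension with unramified closed fibre. -/
theorem exists_comparison (hfin : Module.Finite A A') (hdim : ringKrullDim A ≤ 1)
    (hm : (maximalIdeal A).map (algebraMap A B) = maximalIdeal B)
    (hred : ∀ (n : Ideal A') [n.IsMaximal], IsReduced ((A' ⧸ n) ⊗[A] B)) :
    ∃ f : B ⊗[A] A' →ₗ[B] integralClosure B (FractionRing B),
      Function.Bijective f ∧ f (1 ⊗ₜ 1) = 1 := by
  classical
  haveI := hfin
  haveI : Module.FaithfullyFlat A B := Module.FaithfullyFlat.of_flat_of_isLocalHom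
  have hnzd : ∀ s : nonZeroDivisors A, algebraMap A B s ∈ nonZeroDivisors B := fun s => by
    rw [mem_nonZeroDivisors_iff_right]
    intro b hb
    have hs : IsSMulRegular A (s : A) := fun x y h =>
      (mul_cancel_left_mem_nonZeroDivisors s.2).1 h
    exact ((IsSMulRegular.of_flat (S := B) hs) (show algebraMap A B s • b = algebraMap A B s • (0 : B) by
      rw [smul_eq_mul, smul_zero, mul_comm]; exact hb))
  let g₀ : FractionRing A →+* FractionRing B :=
    IsLocalization.lift (g := (algebraMap B (FractionRing B)).comp (algebraMap A B)) fun s =>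
      IsLocalization.map_units (FractionRing B) (⟨_, hnzd s⟩ : nonZeroDivisors B)
  let g : FractionRing A →ₐ[A] FractionRing B :=
    { g₀ with
      commutes' := fun a => by
        show g₀ (algebraMap A (FractionRing A) a) = _
        rw [IsLocalization.lift_eq, IsScalarTower.algebraMap_apply A B (FractionRing B)]
        rfl }
  let Ψ : B ⊗[A] FractionRing A →ₐ[B] FractionRing B :=
    Algebra.TensorProduct.lift (Algebra.ofId B (FractionRing B)) g fun _ _ => Commute.all _ _
  have hΨ : Function.Injective Ψ := by
    have hrep : ∀ z : B ⊗[A] FractionRing A, ∃ (s : nonZeroDivisors A) (b : B),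
        z * (1 ⊗ₜ algebraMap A (FractionRing A) s) = b ⊗ₜ 1 := by
      intro z
      induction z using TensorProduct.induction_on with
      | zero => exact ⟨1, 0, by simp⟩
      | tmul b x =>
        obtain ⟨⟨a, s⟩, has⟩ := IsLocalization.surj (nonZeroDivisors A) x
        refine ⟨s, a • b, ?_⟩
        rw [Algebra.TensorProduct.tmul_mul_tmul, mul_one, has, TensorProduct.smul_tmul, Algebra.smul_def, mul_one]
      | add x y hx hy =>
        obtain ⟨s, b, hb⟩ := hx
        obtain ⟨t, c, hc⟩ := hy
        refine ⟨s * t, (t : A) • b + (s : A) • c, ?_⟩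
        have h1 : ((1 : B) ⊗ₜ[A] algebraMap A (FractionRing A) (s * t : nonZeroDivisors A)) =
            (1 ⊗ₜ algebraMap A (FractionRing A) s) * (1 ⊗ₜ algebraMap A (FractionRing A) t) := by
          rw [Algebra.TensorProduct.tmul_mul_tmul, mul_one, Submonoid.coe_mul, map_mul]
        have h2 : ∀ (r : A) (w : B), (r • w) ⊗ₜ[A] (1 : FractionRing A) =
            (w ⊗ₜ[A] 1) * (1 ⊗ₜ algebraMap A (FractionRing A) r) := fun r w => by
          rw [Algebra.TensorProduct.tmul_mul_tmul, mul_one, one_mul, TensorProduct.smul_tmul, Algebra.smul_def, mul_one]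
        rw [TensorProduct.add_tmul, h1, h2, h2, ← hb, ← hc]
        ring
    rw [injective_iff_map_eq_zero]
    intro z hz
    obtain ⟨s, b, hb⟩ := hrep z
    have h := congrArg Ψ hb
    rw [map_mul, hz, zero_mul, Algebra.TensorProduct.lift_tmul, map_one, mul_one] at h
    have hb0 : b = 0 := IsFractionRing.injective B (FractionRing B) (h.symm.trans (map_zero _).symm)
    have hu : IsUnit ((1 : B) ⊗ₜ[A] algebraMap A (FractionRing A) s) :=
      (IsLocalization.map_units (FractionRing A) s).map (Algebra.TensorProduct.includeRight : FractionRing A →ₐ[A] B ⊗[A] FractionRing A)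
    rw [hb0, TensorProduct.zero_tmul] at hb
    exact hu.mul_left_eq_zero.1 hb
  let T := B ⊗[A] A'
  let Θ : T →ₐ[B] FractionRing B :=
    Ψ.comp (Algebra.TensorProduct.map (AlgHom.id B B) (A').val)
  have hΘ : Function.Injective Θ := by
    refine hΨ.comp ?_
    show Function.Injective (LinearMap.lTensor B (A').val.toLinearMap)
    exact Module.Flat.lTensor_preserves_injective_linearMap _ Subtype.val_injective
  haveI : Algebra.IsIntegral B T := Algebra.IsIntegral.of_finite B T
  haveI : IsNoetherianRing T := IsNoetherianRing.of_finite B T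
  have hrange : ∀ z, Θ z ∈ integralClosure B (FractionRing B) := fun z =>
    (Algebra.IsIntegral.isIntegral (R := B) z).map Θ
  -- local structure of `T`
  have hlocal : ∀ (M : Ideal T) [M.IsMaximal], ∃ _ : IsDomain (Localization.AtPrime M), IsIntegrallyClosed (Localization.AtPrime M) := by
    intro M hM
    letI : Algebra A' T := (Algebra.TensorProduct.includeRight : A' →ₐ[A] T).toRingHom.toAlgebra
    haveI : IsScalarTower A A' T := IsScalarTower.of_algebraMap_eq fun a =>
      ((Algebra.TensorProduct.includeRight : A' →ₐ[A] T).commutes a).symm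
    let n := M.comap (algebraMap A' T)
    have hMB : M.comap (algebraMap B T) = maximalIdeal B :=
      eq_maximalIdeal (Ideal.isMaximal_comap_of_isIntegral_of_isMaximal M)
    haveI : Algebra.IsIntegral A A' := Algebra.IsIntegral.of_finite A A'
    haveI hn : n.IsMaximal := by
      refine Ideal.isMaximal_of_isIntegral_of_isMaximal_comap (R := A) n ?_
      have : n.comap (algebraMap A A') = maximalIdeal A := by
        rw [Ideal.comap_comap, ← IsScalarTower.algebraMap_eq, IsScalarTower.algebraMap_eq A B T, ← Ideal.comap_comap,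
          hMB, IsLocalRing.maximalIdeal_comap (algebraMap A B)]
      rw [this]
      infer_instance
    obtain ⟨π, hπ, hgen, hreg⟩ := exists_local_generator A hfin hdim n
    let C := Localization.AtPrime M
    haveI : IsNoetherianRing C := IsLocalization.isNoetherianRing M.primeCompl C inferInstance
    let F := A' ⧸ n
    let q : T →+* F ⊗[A] B := ((Algebra.TensorProduct.map (Ideal.Quotient.mkₐ A n) (AlgHom.id A B)).comp
      (Algebra.TensorProduct.comm A B A').toAlgHom).toRingHom
    have hqs : Function.Surjective q :=
      (TensorProduct.map_surjective Ideal.Quotient.mk_surjective Function.surjective_id).comp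
        (Algebra.TensorProduct.comm A B A').surjective
    have hqk : RingHom.ker q = n.map (algebraMap A' T) := by
      have hk : RingHom.ker (Algebra.TensorProduct.map (Ideal.Quotient.mkₐ A n) (AlgHom.id A B)).toRingHom =
          n.map (Algebra.TensorProduct.includeLeft : A' →ₐ[A] A' ⊗[A] B).toRingHom := by
        refine (Algebra.TensorProduct.map_ker _ _ Ideal.Quotient.mk_surjective Function.surjective_id).trans ?_
        rw [show RingHom.ker (AlgHom.id A B) = ⊥ from (RingHom.injective_iff_ker_eq_bot _).1 fun a b h => h,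
          Ideal.map_bot, sup_bot_eq, show RingHom.ker (Ideal.Quotient.mkₐ A n) = n from Ideal.Quotient.mkₐ_ker A n]
        rfl
      refine le_antisymm (fun z hz => ?_) ?_
      · have h1 : Algebra.TensorProduct.comm A B A' z ∈ n.map (Algebra.TensorProduct.includeLeft : A' →ₐ[A] A' ⊗[A] B).toRingHom :=
          hk.le hz
        have h2 := Ideal.mem_map_of_mem (Algebra.TensorProduct.comm A B A').symm.toAlgHom.toRingHom h1
        rw [Ideal.map_map] at h2
        have h3 : ((Algebra.TensorProduct.comm A B A').symm.toAlgHom.toRingHom.comp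
            (Algebra.TensorProduct.includeLeft : A' →ₐ[A] A' ⊗[A] B).toRingHom) = algebraMap A' T :=
          RingHom.ext fun a => rfl
        rw [h3] at h2
        simpa using h2
      · rw [Ideal.map_le_iff_le_comap]
        intro a ha
        show Ideal.Quotient.mk n a ⊗ₜ[A] (1 : B) = 0
        rw [Ideal.Quotient.eq_zero_iff_mem.2 ha, TensorProduct.zero_tmul]
    haveI : IsReduced (F ⊗[A] B) := hred n
    have hkM : RingHom.ker q ≤ M := hqk.le.trans (Ideal.map_le_iff_le_comap.2 le_rfl)
    haveI : (M.map q).IsPrime := Ideal.map_isPrime_of_surjective hqs hkM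
    have hmaxF : ∀ P : Ideal (F ⊗[A] B), P.IsPrime → P.IsMaximal := by
      intro P hP
      haveI : (P.comap q).IsPrime := Ideal.IsPrime.comap q
      haveI : (P.comap q).IsMaximal := by
        refine Ideal.isMaximal_of_isIntegral_of_isMaximal_comap (R := B) _ ?_
        have hle : maximalIdeal B ≤ (P.comap q).comap (algebraMap B T) := by
          rw [← hm, Ideal.map_le_iff_le_comap, Ideal.comap_comap, ← IsScalarTower.algebraMap_eq,
            IsScalarTower.algebraMap_eq A A' T]
          intro a ha
          have hna : algebraMap A A' a ∈ n := by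
            have : a ∈ n.comap (algebraMap A A') := by
              rw [Ideal.comap_comap, ← IsScalarTower.algebraMap_eq, IsScalarTower.algebraMap_eq A B T, ← Ideal.comap_comap,
                hMB, IsLocalRing.maximalIdeal_comap (algebraMap A B)]
              exact ha
            exact this
          show q (algebraMap A' T (algebraMap A A' a)) ∈ P
          rw [show q (algebraMap A' T (algebraMap A A' a)) = 0 from hqk.ge (Ideal.mem_map_of_mem _ hna)]
          exact zero_mem _
        rw [← le_antisymm hle (le_maximalIdeal (Ideal.IsPrime.ne_top inferInstance))]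
        infer_instance
      rw [← Ideal.map_comap_of_surjective q hqs P]
      exact Ideal.IsMaximal.map_of_surjective_of_ker_le hqs (fun x hx => by
        show q x ∈ P
        rw [RingHom.mem_ker.1 hx]; exact zero_mem _)
    have hmC : maximalIdeal C = Ideal.span {algebraMap T C (algebraMap A' T π)} := by
      refine le_antisymm ?_ ((Ideal.span_singleton_le_iff_mem _).2
        ((IsLocalization.AtPrime.to_map_mem_maximal_iff C M _).2 hπ))
      rw [← Localization.AtPrime.map_eq_maximalIdeal, Ideal.map_le_iff_le_comap]
      intro t ht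
      obtain ⟨u, hu, hut⟩ := exists_mul_eq_zero hmaxF (M.map q) (Ideal.mem_map_of_mem q ht)
      obtain ⟨u, rfl⟩ := hqs u
      have huM : u ∉ M := fun h => hu (Ideal.mem_map_of_mem q h)
      have h1 : u * t ∈ n.map (algebraMap A' T) := hqk ▸ (by rw [RingHom.mem_ker, map_mul]; exact hut)
      have h2 : n.map (algebraMap A' T) ≤ (Ideal.span {algebraMap T C (algebraMap A' T π)}).comap (algebraMap T C) := by
        rw [Ideal.map_le_iff_le_comap]
        intro a ha
        obtain ⟨v, hv, hva⟩ := hgen a ha
        obtain ⟨c, hc⟩ := Ideal.mem_span_singleton.1 hva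
        refine Ideal.mem_comap.2 (Ideal.mem_comap.2 ((Ideal.unit_mul_mem_iff_mem
          (Ideal.span {algebraMap T C (algebraMap A' T π)})
          (IsLocalization.map_units C (⟨algebraMap A' T v, hv⟩ : M.primeCompl))).1 ?_))
        rw [← map_mul, ← map_mul, hc, map_mul, map_mul]
        exact Ideal.mul_mem_right _ _ (Ideal.mem_span_singleton_self _)
      refine Ideal.mem_comap.2 ((Ideal.unit_mul_mem_iff_mem
        (Ideal.span {algebraMap T C (algebraMap A' T π)})
        (IsLocalization.map_units C (⟨u, huM⟩ : M.primeCompl))).1 ?_)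
      rw [← map_mul]
      exact h2 h1
    refine isDomain_isIntegrallyClosed_of_principal _ hmC ?_
    rcases hreg with ⟨v, hv, hv0⟩ | hreg
    · left
      have : algebraMap T C (algebraMap A' T v) * algebraMap T C (algebraMap A' T π) = 0 := by
        rw [← map_mul, ← map_mul, hv0, map_zero, map_zero]
      exact (IsLocalization.map_units C (⟨algebraMap A' T v, hv⟩ : M.primeCompl)).mul_right_eq_zero.1 this
    · right
      haveI : Module.Flat A' T := by
        letI : Algebra A' (A' ⊗[A] B) := Algebra.TensorProduct.leftAlgebra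
        exact Module.Flat.of_linearEquiv
          ({ (Algebra.TensorProduct.comm A B A').toLinearEquiv with
              map_smul' := fun a x => by
                show Algebra.TensorProduct.comm A B A' (a • x) = a • Algebra.TensorProduct.comm A B A' x
                rw [Algebra.smul_def, Algebra.smul_def, map_mul]
                rfl } : T ≃ₗ[A'] A' ⊗[A] B)
      let V := Localization.AtPrime n
      haveI : IsScalarTower A' T C := inferInstance
      haveI : Module.Flat A' C := Module.Flat.trans A' T C
      letI : Algebra V C := (IsLocalization.lift (M := n.primeCompl) (g := algebraMap A' C) fun v =>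
        IsLocalization.map_units C (⟨algebraMap A' T v, v.2⟩ : M.primeCompl)).toAlgebra
      haveI : IsScalarTower A' V C := IsScalarTower.of_algebraMap_eq fun a => (IsLocalization.lift_eq _ a).symm
      haveI : Module.Flat V C := (Module.flat_iff_of_isLocalization V n.primeCompl C).2 inferInstance
      have h := IsSMulRegular.of_flat (S := C) hreg
      rwa [← IsScalarTower.algebraMap_apply A' V C, IsScalarTower.algebraMap_apply A' T C] at h
  let f : T →ₗ[B] integralClosure B (FractionRing B) := (Θ.codRestrict _ hrange).toLinearMap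
  refine ⟨f, ⟨fun x y h => hΘ (congrArg Subtype.val h), fun z => ?_⟩, Subtype.ext (map_one Θ)⟩
  let I : Ideal T :=
    { carrier := {a | Θ a * z.1 ∈ Set.range Θ}
      add_mem' := by
        rintro a b ⟨p, hp⟩ ⟨r, hr⟩
        exact ⟨p + r, by rw [map_add, hp, hr, map_add, add_mul]⟩
      zero_mem' := ⟨0, by simp⟩
      smul_mem' := by
        rintro c a ⟨p, hp⟩
        exact ⟨c * p, by rw [smul_eq_mul, map_mul, hp, map_mul, mul_assoc]⟩ }
  suffices hI : I = ⊤ by
    obtain ⟨w, hw⟩ := (Ideal.eq_top_iff_one I).1 hI
    exact ⟨w, Subtype.ext (by rw [map_one, one_mul] at hw; exact hw)⟩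
  by_contra hI
  obtain ⟨M, hM, hIM⟩ := Ideal.exists_le_maximal I hI
  obtain ⟨_, _⟩ := hlocal M
  let C := Localization.AtPrime M
  obtain ⟨⟨x, y⟩, hxy⟩ := IsLocalization.surj (nonZeroDivisors B) z.1
  obtain ⟨P, hP, hPz⟩ := z.2
  let j : B →+* FractionRing C := (algebraMap C (FractionRing C)).comp ((algebraMap T C).comp (algebraMap B T))
  have hy : j y ≠ 0 := by
    intro h
    have h1 : algebraMap T C (algebraMap B T y) = 0 := IsFractionRing.injective C (FractionRing C) (h.trans (map_zero _).symm)
    obtain ⟨⟨c, hc⟩, hcy⟩ := (IsLocalization.map_eq_zero_iff M.primeCompl C _).1 h1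
    have h2 : Θ c * algebraMap B (FractionRing B) y = 0 := by rw [← Θ.commutes, ← map_mul, hcy, map_zero]
    have h3 : Θ c = 0 := (IsLocalization.map_units (FractionRing B) y).mul_left_eq_zero.1 h2
    exact hc (by rw [hΘ (h3.trans (map_zero Θ).symm)]; exact M.zero_mem)
  have hroot : (Polynomial.scaleRoots P (y : B)).eval x = 0 := by
    refine IsFractionRing.injective B (FractionRing B) ?_
    rw [map_zero, ← Polynomial.eval₂_at_apply, ← hxy, mul_comm, Polynomial.scaleRoots_eval₂_mul, hPz, mul_zero]
  have hint : IsIntegral C (j x / j y) := by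
    refine ⟨P.map ((algebraMap T C).comp (algebraMap B T)), hP.map _, ?_⟩
    rw [Polynomial.eval₂_map]
    show Polynomial.eval₂ j (j x / j y) P = 0
    have h0 : Polynomial.eval₂ j (j x) (Polynomial.scaleRoots P (y : B)) = 0 := by
      rw [Polynomial.eval₂_at_apply, hroot, map_zero]
    rw [show j x = j y * (j x / j y) from (mul_div_cancel₀ _ hy).symm, Polynomial.scaleRoots_eval₂_mul] at h0
    exact (mul_eq_zero.1 h0).resolve_left (pow_ne_zero _ hy)
  obtain ⟨c, hc⟩ := IsIntegrallyClosed.isIntegral_iff.1 hint
  rw [eq_div_iff hy] at hc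
  have hc' : c * algebraMap T C (algebraMap B T y) = algebraMap T C (algebraMap B T x) :=
    IsFractionRing.injective C (FractionRing C) (by rw [map_mul]; exact hc)
  obtain ⟨⟨a, v⟩, hav⟩ := IsLocalization.surj M.primeCompl c
  have : algebraMap T C (v * algebraMap B T x) = algebraMap T C (a * algebraMap B T y) := by
    rw [map_mul, map_mul, ← hc', ← hav]; ring
  obtain ⟨w, hw⟩ := IsLocalization.exists_of_eq (M := M.primeCompl) this
  refine (M.primeCompl.mul_mem w.2 v.2 : (w : T) * v ∈ M.primeCompl) (hIM ⟨w * a, ?_⟩)
  refine (IsLocalization.map_units (FractionRing B) y).mul_right_cancel ?_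
  rw [mul_assoc, hxy, ← Θ.commutes, ← Θ.commutes, ← map_mul, ← map_mul, mul_assoc (w : T) v, hw, mul_assoc]

/-- The δ-invariant is unchanged. -/
theorem deltaInv_eq (hfin : Module.Finite A A') (hdim : ringKrullDim A ≤ 1)
    (hm : (maximalIdeal A).map (algebraMap A B) = maximalIdeal B)
    (hred : ∀ (n : Ideal A') [n.IsMaximal], IsReduced ((A' ⧸ n) ⊗[A] B)) :
    Curv2.deltaInv B = Curv2.deltaInv A := by
  obtain ⟨f, hf, hf1⟩ := exists_comparison A B hfin hdim hm hred
  let e := LinearEquiv.ofBijective f hf
  let ℓ := Algebra.linearMap A A'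
  let R := LinearMap.range ℓ
  have hker : LinearMap.ker (R.mkQ.baseChange B) =
      Submodule.map (e.symm : _ →ₗ[B] B ⊗[A] A') (LinearMap.range (Algebra.linearMap B (integralClosure B (FractionRing B)))) := by
    have hex : Function.Exact (ℓ.baseChange B) (R.mkQ.baseChange B) := by
      rw [LinearMap.baseChange_eq_ltensor, LinearMap.baseChange_eq_ltensor]
      exact lTensor_exact B (LinearMap.exact_map_mkQ_range ℓ) R.mkQ_surjective
    rw [LinearMap.exact_iff.1 hex]
    ext z
    constructor
    · rintro ⟨w, rfl⟩
      induction w using TensorProduct.induction_on with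
      | zero => simp
      | add x y hx hy => rw [map_add]; exact Submodule.add_mem _ hx hy
      | tmul b a =>
        refine ⟨algebraMap B _ (a • b), ⟨a • b, rfl⟩, ?_⟩
        show e.symm _ = _
        rw [LinearEquiv.symm_apply_eq, LinearMap.baseChange_tmul]
        show _ = f (b ⊗ₜ[A] algebraMap A A' a)
        rw [show b ⊗ₜ[A] algebraMap A A' a = (a • b) • ((1 : B) ⊗ₜ[A] (1 : A')) by
          rw [TensorProduct.smul_tmul', smul_eq_mul, mul_one, TensorProduct.smul_tmul, Algebra.algebraMap_eq_smul_one]]
        exact (Algebra.algebraMap_eq_smul_one (a • b)).trans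
          ((congrArg ((a • b) • ·) hf1).symm.trans (f.map_smul (a • b) _).symm)
    · rintro ⟨_, ⟨b, rfl⟩, rfl⟩
      refine ⟨b ⊗ₜ 1, ?_⟩
      show _ = e.symm _
      rw [eq_comm, LinearEquiv.symm_apply_eq, LinearMap.baseChange_tmul]
      show algebraMap B _ b = f (b ⊗ₜ[A] algebraMap A A' 1)
      rw [map_one, show b ⊗ₜ[A] (1 : A') = b • ((1 : B) ⊗ₜ[A] (1 : A')) by
        rw [TensorProduct.smul_tmul', smul_eq_mul, mul_one], map_smul, hf1, Algebra.algebraMap_eq_smul_one]
  have hsurj : Function.Surjective (R.mkQ.baseChange B) := by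
    rw [LinearMap.baseChange_eq_ltensor]
    exact LinearMap.lTensor_surjective _ R.mkQ_surjective
  have e1 := (Submodule.Quotient.equiv _ _ e.symm rfl).trans
    ((Submodule.quotEquivOfEq _ _ hker.symm).trans (LinearMap.quotKerEquivOfSurjective _ hsurj))
  have h1 : Module.length B (B ⊗[A] (A ⧸ maximalIdeal A)) = 1 := by
    have : B ⊗[A] (A ⧸ maximalIdeal A) ≃ₗ[B] B ⧸ maximalIdeal B :=
      (Algebra.TensorProduct.quotIdealMapEquivTensorQuot B (maximalIdeal A)).symm.toLinearEquiv.trans
        (Submodule.quotEquivOfEq _ _ hm)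
    rw [this.length_eq]
    haveI : IsSimpleModule B (B ⧸ maximalIdeal B) := isSimpleModule_iff_isCoatom.2 (maximalIdeal.isMaximal B).out
    exact Module.length_eq_one B _
  show Module.length B _ = Module.length A _
  rw [e1.length_eq, Groth.L22.Cyc.length_tensor (B := A) (C := B), h1, mul_one]

end Groth.L22.Norm.FlatInvariance
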